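import Cfsg.Agent.Lib.Spor.Suz.Simple
import Cfsg.Agent.Lib.Spor.SuzThree.TabG
import Cfsg.Agent.Lib.Spor.SuzThree.Lists

/-!
The rows of the table of degree 1782 as elements of the presented Suzuki group.
-/

set_option autoImplicit false

namespace CfsgLib.Spor.SuzThree

open CfsgLib.PresCert Data

/-- the presented group -/
abbrev S : Type := Cfsg.Spor.Suz

/-- the representation on 1782 points -/
noncomputable def ρ : S →* Equiv.Perm (Fin dG.n) := CfsgLib.Spor.Suz.π

theorem ρ_injective : Function.Injective ρ := CfsgLib.Spor.Suz.π_injective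

theorem gens_eq : (allBelow 7 fun k => allBelow 1782 fun i =>
    Nat.beq (CfsgLib.Spor.Suz.Perm.data.img k i) (dG.img k i)) = true := by decide +kernel

theorem dG_n : dG.n = 1782 := rfl

theorem dG_g : dG.g = 7 := rfl

theorem dG_len : dG.g + dG.words.length = 28 := rfl

theorem ρ_gen (x : Cfsg.Spor.Suz.Gen) (i : Fin dG.n) :
    ((ρ (CfsgLib.Spor.Suz.gen x) i : Fin dG.n) : ℕ) = dG.img (CfsgLib.Spor.Suz.idx x) i := by
  have h := Nat.eq_of_beq_eq_true
    (allBelow_spec (allBelow_spec gens_eq (CfsgLib.Spor.Suz.idx x) (CfsgLib.Spor.Suz.idx_lt x)) i i.2)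
  rw [← h]
  exact CfsgLib.Spor.Suz.π_gen x i

theorem ρ_gens (k : ℕ) (hk : k < dG.g) :
    ∃ x : S, ∀ i : Fin dG.n, ((ρ x i : Fin dG.n) : ℕ) = dG.img k i := by
  obtain ⟨x, rfl⟩ := CfsgLib.Spor.Suz.exists_gen k hk
  exact ⟨_, ρ_gen x⟩

/-- the interpretation of the table -/
noncomputable def I : PermData.Interp dG :=
  ⟨fun k => if hk : k < dG.g then ρ (ρ_gens k hk).choose else 1, fun k hk i => by
    simp only [dif_pos hk]
    exact (ρ_gens k hk).choose_spec i⟩

theorem grp_le : PermData.grp I ≤ ρ.range := by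
  rw [PermData.grp, Subgroup.closure_le]
  rintro _ ⟨k, hk, rfl⟩
  exact ⟨(ρ_gens k hk).choose, by simp [I, dif_pos hk]⟩

theorem dG_words : dG.okWords dG.g dG.words = true := by decide +kernel

theorem levGs_ok : dG.okLevels [] levGs = true := by decide +kernel

theorem levGs_prod : (levGs.map Level.len).prod = 448345497600 := by decide +kernel

instance finite_S : Finite S := CfsgLib.Spor.Suz.finite

theorem card_S : Nat.card S = 448345497600 := CfsgLib.Spor.Suz.natCard

theorem card_range : Nat.card ρ.range = 448345497600 := by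
  rw [← card_S]
  exact (Nat.card_congr (MonoidHom.ofInjective ρ_injective).toEquiv).symm

theorem range_le : ρ.range ≤ PermData.grp I := by
  refine (Subgroup.eq_of_le_of_card_ge grp_le ?_).ge
  rw [card_range, ← levGs_prod]
  exact PermData.le_card I dG_words levGs levGs_ok

theorem card_grp : Nat.card (PermData.grp I) ≤ (levGs.map Level.len).prod := by
  rw [levGs_prod, ← card_range]
  exact Nat.le_of_dvd Nat.card_pos (Subgroup.card_dvd_of_le grp_le)

open Classical in
/-- the element of a row -/
noncomputable def E (k : ℕ) : S :=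
  if h : ∃ x : S, ∀ i : Fin dG.n, ((ρ x i : Fin dG.n) : ℕ) = dG.img k i then h.choose else 1

theorem E_spec {k : ℕ} (hk : k < 28) (i : Fin dG.n) :
    ((ρ (E k) i : Fin dG.n) : ℕ) = dG.img k i := by
  obtain ⟨σ, hσ, e⟩ := PermData.elem_exists I dG_words k (dG_len.symm ▸ hk)
  obtain ⟨x, rfl⟩ := grp_le hσ
  have h : ∃ x : S, ∀ i : Fin dG.n, ((ρ x i : Fin dG.n) : ℕ) = dG.img k i := ⟨x, e⟩
  rw [E, dif_pos h]
  exact h.choose_spec i

/-- the product of a word of rows, first letter acting first -/
noncomputable def P : List ℕ → S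
  | [] => 1
  | k :: w => P w * E k

@[simp] theorem P_nil : P [] = 1 := rfl

@[simp] theorem P_cons (k : ℕ) (w : List ℕ) : P (k :: w) = P w * E k := rfl

theorem P_append (u v : List ℕ) : P (u ++ v) = P v * P u := by
  induction u with
  | nil => simp
  | cons k u ih => simp [ih, mul_assoc]

theorem P_val : ∀ (w : List ℕ), (∀ k ∈ w, k < 28) → ∀ i : Fin dG.n,
    ((ρ (P w) i : Fin dG.n) : ℕ) = dG.app w i
  | [], _, i => by rw [P_nil, map_one]; rfl
  | k :: w, h, i => by
    rw [P_cons, map_mul, Equiv.Perm.mul_apply, P_val w (fun j hj => h j (List.mem_cons_of_mem _ hj)),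
      E_spec (h k (List.mem_cons_self ..))]
    rfl

/-- two words act alike -/
noncomputable def okEq (w v : List ℕ) : Bool :=
  (w.all fun k => Nat.blt k 28) && (v.all fun k => Nat.blt k 28) &&
    allBelow 1782 fun i => Nat.beq (dG.app w i) (dG.app v i)

theorem okEq_spec {w v : List ℕ} (h : okEq w v = true) : P w = P v := by
  simp only [okEq, Bool.and_eq_true, List.all_eq_true, Nat.blt_eq] at h
  refine ρ_injective (Equiv.ext fun i => Fin.ext ?_)
  rw [P_val w h.1.1, P_val v h.1.2]
  exact Nat.eq_of_beq_eq_true (allBelow_spec h.2 i i.2)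

theorem P_single (k : ℕ) : P [k] = E k := one_mul _

end CfsgLib.Spor.SuzThree
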