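import Cfsg.Agent.Lib.Spor.SuzThree.Base
import Cfsg.Agent.Lib.Spor.SuzThree.TabA

/-!
Kernel checks for the centraliser of an involution.
-/

set_option autoImplicit false
set_option maxRecDepth 100000

namespace CfsgLib.Spor.SuzThree

open CfsgLib.PresCert Data

/-- the tables are those of the named rows -/
noncomputable def rowsOK : Bool :=
  Nat.beq dA.g 7 && Nat.beq dQ.g 7 && Nat.beq dQy.g 5 &&
  Nat.beq dA.n 1782 && Nat.beq dQ.n 1782 && Nat.beq dQy.n 1782 &&
    allBelow 1782 fun i =>
      (allBelow 7 fun k => Nat.beq (dA.img k i) (dG.img (caK.getD k 0) i) &&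
        Nat.beq (dQ.img k i) (dG.img (qK.getD k 0) i)) &&
      allBelow 5 fun k => Nat.beq (dQy.img k i) (dG.img (qK.getD k 0) i)

theorem rowsOK_eq : rowsOK = true := by decide +kernel

theorem dA_words : dA.okWords dA.g dA.words = true := by decide +kernel

theorem levA_ok : dA.okLevels [] levAs = true := by decide +kernel

theorem levA_prod : (levAs.map Level.len).prod = 3317760 := by decide +kernel

theorem dQ_words : dQ.okWords dQ.g dQ.words = true := by decide +kernel

theorem levQ_ok : dQ.okLevels [] levQs = true := by decide +kernel

theorem levQ_prod : (levQs.map Level.len).prod = 128 := by decide +kernel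

theorem dQy_words : dQy.okWords dQy.g dQy.words = true := by decide +kernel

theorem levQy_ok : dQy.okLevels [] levQys = true := by decide +kernel

theorem levQy_prod : (levQys.map Level.len).prod = 32 := by decide +kernel

/-- relations -/
noncomputable def caOK : Bool :=
  okEq [0, 0] [] &&
    (allBelow 7 fun h =>
      let k := caK.getD h 0
      let l := caInv.getD h 0
      okEq [k, 0] [0, k] && okEq [k, l] [] &&
        allBelow 7 fun i => okEq [l, qK.getD i 0, k] ((qConj.getD h []).getD i []) &&
          ((qConj.getD h []).getD i []).all fun x => qK.contains x) &&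
    allBelow 7 fun i =>
      let q := qK.getD i 0
      okEq [q, q, q, q] [] && okEq [q, 0] [0, q] && (Nat.ble 5 i || okEq [q, ky] [ky, q]) &&
        allBelow i fun j =>
          if Nat.beq ((qComm.getD i []).getD j 0) 0 then okEq [q, q, q, qK.getD j 0, q] [qK.getD j 0]
          else okEq [q, q, q, qK.getD j 0, q] [0, qK.getD j 0]

theorem caOK_eq : caOK = true := by decide +kernel

theorem qK_zero : qK.getD 0 0 = 0 ∧ qK.length = 7 ∧ caK.length = 7 := by decide

end CfsgLib.Spor.SuzThree
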