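import Cfsg.Agent.Lib.Spor.SuzThree.Cent
import Cfsg.Agent.Lib.Spor.SuzThree.ChkCa

/-!
The centraliser of an involution of the presented Suzuki group and its normal subgroup of order
`2 ^ 7`.
-/

set_option autoImplicit false
set_option maxRecDepth 100000

namespace CfsgLib.Spor.SuzThree

open CfsgLib.PresCert Data

/-- the involution -/
noncomputable def za : S := E 0

/-- the generated part of its centraliser -/
noncomputable def Ca : Subgroup S := Subgroup.closure {x | ∃ h < 7, E (caK.getD h 0) = x}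

/-- the initial parts of the normal two-subgroup -/
noncomputable def Qi (m : ℕ) : Subgroup S := Subgroup.closure {x | ∃ i < m, E (qK.getD i 0) = x}

/-- the normal two-subgroup -/
noncomputable abbrev Q0 : Subgroup S := Qi 7

theorem za_sq : za * za = 1 := by
  have h := caOK_eq
  simp only [caOK, Bool.and_eq_true] at h
  have := okEq_spec h.1.1
  simpa [za] using this

theorem q_rels {i : ℕ} (hi : i < 7) :
    E (qK.getD i 0) ^ 4 = 1 ∧ Commute za (E (qK.getD i 0)) ∧
      (i < 5 → Commute y (E (qK.getD i 0))) ∧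
      ∀ j < i, E (qK.getD i 0) * E (qK.getD j 0) * (E (qK.getD i 0))⁻¹ ∈
        ({E (qK.getD j 0), E (qK.getD j 0) * za} : Set S) := by
  have h := caOK_eq
  simp only [caOK, Bool.and_eq_true] at h
  have h1 := allBelow_spec h.2 i hi
  simp only [Bool.and_eq_true, Bool.or_eq_true, Nat.ble_eq] at h1
  obtain ⟨⟨⟨h4, hz⟩, hy⟩, hj⟩ := h1
  have h4' : E (qK.getD i 0) ^ 4 = 1 := by
    have := okEq_spec h4
    simp only [P_cons, P_nil, one_mul] at this
    simpa only [pow_succ, pow_zero, one_mul, mul_assoc] using this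
  refine ⟨h4', ?_, fun h5 => ?_, fun j hji => ?_⟩
  · have := okEq_spec hz
    simp only [P_cons, P_nil, one_mul] at this
    exact this
  · have := okEq_spec (hy.resolve_left (by omega))
    simp only [P_cons, P_nil, one_mul] at this
    exact this
  · have hinv : (E (qK.getD i 0))⁻¹ = E (qK.getD i 0) * E (qK.getD i 0) * E (qK.getD i 0) :=
      inv_eq_of_mul_eq_one_right (by
        simpa only [pow_succ, pow_zero, one_mul, mul_assoc] using h4')
    have hh := allBelow_spec hj j hji
    split_ifs at hh with hf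
    · have := okEq_spec hh
      simp only [P_cons, P_nil, one_mul] at this
      left
      rw [hinv]
      simpa only [Set.mem_singleton_iff, mul_assoc] using this
    · have := okEq_spec hh
      simp only [P_cons, P_nil, one_mul] at this
      right
      show _ = E (qK.getD j 0) * za
      rw [hinv, za]
      simpa only [mul_assoc] using this

theorem mem_normalizer_closure {G : Type*} [Group G] [Finite G] {s : Set G} {g : G}
    (h : ∀ x ∈ s, g * x * g⁻¹ ∈ Subgroup.closure s) :
    g ∈ Subgroup.normalizer ((Subgroup.closure s : Subgroup G) : Set G) := by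
  have hle : (Subgroup.closure s).map (MulAut.conj g).toMonoidHom ≤ Subgroup.closure s := by
    rw [MonoidHom.map_closure, Subgroup.closure_le]
    rintro _ ⟨x, hx, rfl⟩
    exact h x hx
  have heq := Subgroup.eq_of_le_of_card_ge hle
    (le_of_eq (Nat.card_congr ((Subgroup.closure s).equivMapOfInjective _
      (MulAut.conj g).injective).toEquiv))
  rw [Subgroup.mem_normalizer_iff]
  intro x
  constructor
  · intro hx
    exact heq.le ⟨x, hx, rfl⟩
  · intro hx
    obtain ⟨w, hw, hwe⟩ := heq.ge hx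
    have : w = x := by simpa using hwe
    exact this ▸ hw

theorem Qi_zero : Qi 0 = ⊥ := by
  rw [Qi, eq_bot_iff, Subgroup.closure_le]
  rintro _ ⟨i, hi, -⟩
  omega

theorem Qi_mem {i m : ℕ} (h : i < m) : E (qK.getD i 0) ∈ Qi m :=
  Subgroup.subset_closure ⟨i, h, rfl⟩

theorem za_mem {m : ℕ} (h : 0 < m) : za ∈ Qi m := by
  have := Qi_mem h
  rwa [qK_zero.1] at this

theorem Qi_pgroup : ∀ m ≤ 7, IsPGroup 2 (Qi m)
  | 0, _ => by rw [Qi_zero]; exact IsPGroup.of_bot
  | m + 1, hm => by
    have ih := Qi_pgroup m (by omega)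
    obtain ⟨h4, -, -, hc⟩ := q_rels (show m < 7 by omega)
    have hp : IsPGroup 2 (Subgroup.zpowers (E (qK.getD m 0))) := by
      obtain ⟨k, -, hk⟩ := (Nat.dvd_prime_pow Nat.prime_two).1
        (show orderOf (E (qK.getD m 0)) ∣ 2 ^ 2 from orderOf_dvd_of_pow_eq_one h4)
      exact IsPGroup.of_card (n := k) (by rw [Nat.card_zpowers, hk])
    have hn : Subgroup.zpowers (E (qK.getD m 0)) ≤
        Subgroup.normalizer ((Qi m : Subgroup S) : Set S) := by
      rw [Subgroup.zpowers_le]
      refine mem_normalizer_closure ?_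
      rintro _ ⟨j, hj, rfl⟩
      rcases hc j hj with h | h <;> rw [h]
      · exact Qi_mem hj
      · exact (Qi m).mul_mem (Qi_mem hj) (za_mem (Nat.zero_lt_of_lt hj))
    have he : Qi (m + 1) = Subgroup.zpowers (E (qK.getD m 0)) ⊔ Qi m := by
      refine le_antisymm ?_ (sup_le (Subgroup.zpowers_le.2 (Qi_mem (Nat.lt_succ_self m))) ?_)
      · rw [Qi, Subgroup.closure_le]
        rintro _ ⟨i, hi, rfl⟩
        rcases Nat.lt_or_ge i m with h | h
        · exact le_sup_right (α := Subgroup S) (Qi_mem h)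
        · obtain rfl : i = m := by omega
          exact le_sup_left (α := Subgroup S) (Subgroup.mem_zpowers _)
      · rw [Qi, Subgroup.closure_le]
        rintro _ ⟨i, hi, rfl⟩
        exact Qi_mem (by omega)
    rw [he]
    exact IsPGroup.to_sup_of_normal_right' hp ih hn

theorem Q0_pgroup : IsPGroup 2 Q0 := Qi_pgroup 7 le_rfl

theorem Ca_le : Ca ≤ Subgroup.centralizer ({za} : Set S) := by
  rw [Ca, Subgroup.closure_le]
  rintro _ ⟨h, hh, rfl⟩
  have hc := caOK_eq
  simp only [caOK, Bool.and_eq_true] at hc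
  have h1 := allBelow_spec hc.1.2 h hh
  simp only [Bool.and_eq_true] at h1
  have := okEq_spec h1.1.1
  simp only [P_cons, P_nil, one_mul] at this
  exact Subgroup.mem_centralizer_singleton_iff.2 this.symm

theorem Q0_le : Q0 ≤ Subgroup.centralizer ({za} : Set S) := by
  show Qi 7 ≤ _
  rw [Qi, Subgroup.closure_le]
  rintro _ ⟨i, hi, rfl⟩
  exact Subgroup.mem_centralizer_singleton_iff.2 (q_rels hi).2.1.eq.symm

theorem Ca_normalize : Ca ≤ Subgroup.normalizer ((Q0 : Subgroup S) : Set S) := by
  rw [Ca, Subgroup.closure_le]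
  rintro _ ⟨h, hh, rfl⟩
  refine mem_normalizer_closure ?_
  rintro _ ⟨i, hi, rfl⟩
  have hc := caOK_eq
  simp only [caOK, Bool.and_eq_true] at hc
  have h1 := allBelow_spec hc.1.2 h hh
  simp only [Bool.and_eq_true] at h1
  have hinv := okEq_spec h1.1.2
  simp only [P_cons, P_nil, one_mul] at hinv
  have h2 := allBelow_spec h1.2 i hi
  simp only [Bool.and_eq_true, List.all_eq_true, List.contains_iff_mem] at h2
  have h3 := okEq_spec h2.1
  simp only [P_cons, P_nil, one_mul] at h3
  rw [eq_inv_of_mul_eq_one_left hinv] at h3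
  rw [h3]
  have hP : ∀ w : List ℕ, (∀ x ∈ w, x ∈ qK) → P w ∈ Q0 := by
    intro w
    induction w with
    | nil => exact fun _ => Q0.one_mem
    | cons k w ih =>
      intro hw
      obtain ⟨p, hp, hpe⟩ := List.getElem_of_mem (hw k (List.mem_cons_self ..))
      refine Q0.mul_mem (ih fun x hx => hw x (List.mem_cons_of_mem _ hx)) ?_
      rw [← hpe, ← List.getD_eq_getElem _ 0 hp]
      exact Qi_mem hp
  exact hP _ h2.2

theorem row_spec {i : ℕ} (hi : i < 1782) :
    (∀ k < 7, dA.img k i = dG.img (caK.getD k 0) i ∧ dQ.img k i = dG.img (qK.getD k 0) i) ∧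
      ∀ k < 5, dQy.img k i = dG.img (qK.getD k 0) i := by
  have h := rowsOK_eq
  simp only [rowsOK, Bool.and_eq_true] at h
  have h1 := allBelow_spec h.2 i hi
  simp only [Bool.and_eq_true] at h1
  refine ⟨fun k hk => ?_, fun k hk => Nat.eq_of_beq_eq_true (allBelow_spec h1.2 k hk)⟩
  have h2 := allBelow_spec h1.1 k hk
  simp only [Bool.and_eq_true, Nat.beq_eq] at h2
  exact h2

theorem cent_za_ge : 3317760 ≤ Nat.card Ca := by
  rw [← levA_prod]
  refine PermData.le_card_of_hom (D := dA) Ca (ρ : S →* Equiv.Perm (Fin dA.n)) (fun k hk => ?_)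
    dA_words levAs levA_ok
  have hk' : k < 7 := hk
  refine ⟨_, Subgroup.subset_closure ⟨k, hk', rfl⟩, fun i => ?_⟩
  have hb : caK.getD k 0 < 28 := by interval_cases k <;> decide
  exact (E_spec hb i).trans ((row_spec i.2).1 k hk').1.symm

theorem card_Q0_ge : 128 ≤ Nat.card Q0 := by
  rw [← levQ_prod]
  refine PermData.le_card_of_hom (D := dQ) Q0 (ρ : S →* Equiv.Perm (Fin dQ.n)) (fun k hk => ?_)
    dQ_words levQs levQ_ok
  have hk' : k < 7 := hk
  refine ⟨_, Qi_mem hk', fun i => ?_⟩
  have hb : qK.getD k 0 < 28 := by interval_cases k <;> decide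
  exact (E_spec hb i).trans ((row_spec i.2).1 k hk').2.symm

theorem card_Q0_y : 32 ≤ Nat.card ↥(Q0 ⊓ Subgroup.centralizer ({y} : Set S)) := by
  rw [← levQy_prod]
  refine PermData.le_card_of_hom (D := dQy) _ (ρ : S →* Equiv.Perm (Fin dQy.n)) (fun k hk => ?_)
    dQy_words levQys levQy_ok
  have hk' : k < 5 := hk
  refine ⟨E (qK.getD k 0), ⟨Qi_mem (by omega), Subgroup.mem_centralizer_singleton_iff.2
    (((q_rels (show k < 7 by omega)).2.2.1 hk').eq.symm)⟩, fun i => ?_⟩
  have hb : qK.getD k 0 < 28 := by interval_cases k <;> decide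
  exact (E_spec hb i).trans ((row_spec i.2).2 k hk').symm

theorem za_ne : za ≠ 1 := by
  intro h
  have h' : ∀ i : Fin dG.n, dG.img 0 i = i := fun i => by
    rw [← E_spec (by norm_num : (0:ℕ) < 28) i, show E 0 = 1 from h, map_one, Equiv.Perm.one_apply]
  have : ∃ i < 1782, dG.img 0 i ≠ i := ⟨15, by norm_num, by decide +kernel⟩
  obtain ⟨i, hi, hne⟩ := this
  exact hne (h' ⟨i, hi⟩)

theorem y_za : za * y = y * za := by
  have h := (rels.2.2.1 0 (by decide)).2
  exact h.eq.symm

end CfsgLib.Spor.SuzThree
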