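import Cfsg.Agent.Lib.Spor.SuzThree.Base
import Cfsg.Agent.Lib.PresCert.CentralizerBound

/-!
An upper bound for a group of permutations preserving the fixed points of a given permutation.
-/

set_option autoImplicit false

namespace CfsgLib.Spor.SuzThree

open CfsgLib.PresCert PermData Equiv

theorem fixPreserve_le {D : PermData} (I : Interp D) (hw : D.okWords D.g D.words = true) (z : Nat)
    (ζ : Perm (Fin D.n)) (hζ : ∀ i : Fin D.n, ((ζ i : Fin D.n) : Nat) = D.img z i)
    (K : Subgroup (Perm (Fin D.n))) (hK : ∀ σ ∈ K, ∀ i, ζ i = i → ζ (σ i) = σ i) :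
    ∀ (ls : List Level) (fls : List (List Nat)) (bs : List Nat), D.okLevels bs ls = true →
      D.okFixed z ls fls = true → Nat.card (fixing I bs) ≤ (ls.map Level.len).prod →
        Nat.card (fixing I bs ⊓ K : Subgroup (Perm (Fin D.n))) ≤ (fls.map List.length).prod
  | [], [], bs, _, _, hc => by
    refine (Nat.card_le_card_of_injective
      (fun σ : (fixing I bs ⊓ K : Subgroup _) => (⟨σ, σ.2.1⟩ : fixing I bs))
      fun a b h => Subtype.ext (congrArg Subtype.val h :)).trans ?_
    simpa using hc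
  | [], _ :: _, _, _, h, _ => by simp [okFixed] at h
  | _ :: _, [], _, _, h, _ => by simp [okFixed] at h
  | L :: ls, fl :: fls, bs, hl, hf, hc => by
    simp only [okFixed, Bool.and_eq_true] at hf
    obtain ⟨hf1, hf2⟩ := hf
    obtain ⟨hbase, hrest, hc', horb⟩ := level_exact I hw L ls bs hl (by simpa using hc)
    have ih := fixPreserve_le I hw z ζ hζ K hK ls fls _ hrest hf2 hc'
    let b : Fin D.n := ⟨L.base, hbase⟩
    set C := (fixing I bs ⊓ K : Subgroup (Perm (Fin D.n))) with hC
    have himg : ∀ π : C, ((π : Perm (Fin D.n)) b : Nat) ∈ fl.toFinset := by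
      intro π
      obtain ⟨p, hp, he⟩ := horb π π.2.1 b rfl
      have := allBelow_spec hf1 p hp
      simp only [Bool.or_eq_true, Bool.and_eq_true, Bool.not_eq_true', List.contains_iff_mem,
        Nat.beq_eq, ← he] at this
      refine List.mem_toFinset.2 (this.resolve_left fun hh => ?_)
      obtain ⟨h1, h2⟩ := hh
      have e : ζ b = b := Fin.ext (by rw [hζ]; exact h1)
      have e2 : ζ ((π : Perm (Fin D.n)) b) = (π : Perm (Fin D.n)) b := hK _ π.2.2 b e
      have h3 := hζ ((π : Perm (Fin D.n)) b)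
      rw [e2] at h3
      rw [← h3, ← Bool.not_eq_true, Nat.beq_eq] at h2
      exact h2 rfl
    let f : C → fl.toFinset := fun π => ⟨_, himg π⟩
    have hr : ∀ y : Set.range f, ∃ π : C, f π = y := fun y => y.2
    choose r hr using hr
    let ψ : C → fl.toFinset × (fixing I (L.base :: bs) ⊓ K : Subgroup (Perm (Fin D.n))) := fun π =>
      (f π, ⟨((r ⟨f π, π, rfl⟩)⁻¹ * π : C), ⟨⟨((r ⟨f π, π, rfl⟩)⁻¹ * π : C).2.1.1, fun i hi => by
        rcases List.mem_cons.1 hi with hib | hib
        · obtain rfl : i = b := Fin.ext hib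
          have e := congrArg (fun y : fl.toFinset => (y : Nat)) (hr ⟨f π, π, rfl⟩)
          show ((r ⟨f π, π, rfl⟩ : Perm (Fin D.n))⁻¹ * (π : Perm (Fin D.n))) b = b
          rw [Perm.mul_apply, Perm.inv_eq_iff_eq]
          exact Fin.ext e.symm
        · exact ((r ⟨f π, π, rfl⟩)⁻¹ * π : C).2.1.2 i hib⟩,
        ((r ⟨f π, π, rfl⟩)⁻¹ * π : C).2.2⟩⟩)
    have hψ : Function.Injective ψ := by
      intro π π' h
      have h1 : f π = f π' := congrArg Prod.fst h
      have h2 : ((r ⟨f π, π, rfl⟩ : Perm (Fin D.n))⁻¹ * (π : Perm (Fin D.n))) =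
          ((r ⟨f π', π', rfl⟩ : Perm (Fin D.n))⁻¹ * (π' : Perm (Fin D.n))) :=
        congrArg Subtype.val (congrArg Prod.snd h)
      have h3 : (⟨f π, π, rfl⟩ : Set.range f) = ⟨f π', π', rfl⟩ := Subtype.ext h1
      rw [h3] at h2
      exact Subtype.ext (mul_left_cancel h2)
    refine (Nat.card_le_card_of_injective ψ hψ).trans ?_
    rw [Nat.card_prod, List.map_cons, List.prod_cons]
    refine Nat.mul_le_mul ?_ ih
    rw [Nat.card_eq_fintype_card, Fintype.card_coe]
    exact List.toFinset_card_le _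

end CfsgLib.Spor.SuzThree
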