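import Cfsg.Agent.Lib.Spor.SuzThree.ChkCent
import Cfsg.Agent.Lib.Spor.SuzThree.NormFix
import Cfsg.Agent.Lib.Spor.GenCert
import Cfsg.Agent.Lib.Spor.McLUnitary.Perm
import Cfsg.Agent.Lib.Spor.McLUnitary.Unitary
import Cfsg.Agent.Lib.Classical.UnitarySimple
import Cfsg.Prelude.Def_CaseTheorems

/-!
The centraliser of an element of order three of the presented Suzuki group is `3.U₄(3)`.
-/

set_option autoImplicit false
set_option maxRecDepth 100000

namespace CfsgLib.Spor.SuzThree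

open CfsgLib.PresCert CfsgLib.Spor Data
open scoped Pointwise

/-- an element of order three -/
noncomputable def y : S := E ky

/-- the subgroup of order three -/
noncomputable abbrev Y : Subgroup S := Subgroup.zpowers y

/-- the centraliser -/
noncomputable abbrev Cy : Subgroup S := Subgroup.centralizer ((Y : Subgroup S) : Set S)

/-- the normaliser -/
noncomputable abbrev Ny : Subgroup S := Subgroup.normalizer ((Y : Subgroup S) : Set S)

/-- the subgroup generated by six involutions -/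
noncomputable def C0 : Subgroup S := Subgroup.closure {x | ∃ k ∈ cyK, E k = x}

theorem rels : (y * y * y = 1 ∧ y * y = E ky2 ∧ E 3 * y * E 3 = E ky2) ∧
    y = (E 1 * E 2 * E kd) ^ 5 ∧ (∀ k ∈ cyK, E k * E k = 1 ∧ Commute y (E k)) ∧
    (E 2 * E 1) ^ 3 = 1 ∧ (E 5 * E 1) ^ 3 = 1 ∧ (E 6 * E 1) ^ 3 = 1 ∧
    (E kd * E 1) ^ 3 = 1 ∧ (E 1 * E 0) ^ 5 = 1 ∧ (E 6 * E 5) ^ 2 = E 0 := by
  have h := relsOK_eq
  simp only [relsOK, Bool.and_eq_true, List.all_eq_true] at h
  obtain ⟨⟨⟨⟨⟨⟨⟨⟨⟨⟨h1, h2⟩, h3⟩, h4⟩, h5⟩, h6⟩, h7⟩, h8⟩, h9⟩, h10⟩, h11⟩ := h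
  replace h1 := okEq_spec h1; replace h2 := okEq_spec h2; replace h3 := okEq_spec h3
  replace h4 := okEq_spec h4; replace h6 := okEq_spec h6; replace h7 := okEq_spec h7
  replace h8 := okEq_spec h8; replace h9 := okEq_spec h9; replace h10 := okEq_spec h10
  replace h11 := okEq_spec h11
  simp only [P_cons, P_nil, one_mul] at h1 h2 h3 h4 h6 h7 h8 h9 h10 h11
  refine ⟨⟨h1, h2, h3⟩, ?_, fun k hk => ?_, ?_, ?_, ?_, ?_, ?_, ?_⟩
  · rw [y, ← h4]; simp only [pow_succ, pow_zero, one_mul, mul_assoc]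
  · have := h5 k hk
    have a := okEq_spec this.1
    have b := okEq_spec this.2
    simp only [P_cons, P_nil, one_mul] at a b
    exact ⟨a, b⟩
  all_goals simp only [pow_succ, pow_zero, one_mul, mul_assoc] at *; assumption

theorem y_cube : y ^ 3 = 1 := by
  rw [pow_succ, pow_two]; exact rels.1.1

theorem y_moves : ρ y ⟨45, by rw [dG_n]; norm_num⟩ ≠ ⟨45, by rw [dG_n]; norm_num⟩ := by
  intro h
  have h' := congrArg Fin.val h
  rw [y, E_spec (by decide)] at h'
  exact (by decide +kernel : dG.img ky 45 ≠ 45) h'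

theorem y_ne_one : y ≠ 1 := fun h => y_moves (by rw [h, map_one, Equiv.Perm.one_apply])

theorem orderOf_y : orderOf y = 3 := by
  haveI : Fact (Nat.Prime 3) := ⟨by norm_num⟩
  exact orderOf_eq_prime y_cube y_ne_one

theorem card_Y : Nat.card Y = 3 := by rw [Nat.card_zpowers, orderOf_y]

theorem C0_le : C0 ≤ Cy := by
  rw [C0, Subgroup.closure_le]
  rintro _ ⟨k, hk, rfl⟩
  rw [SetLike.mem_coe, Subgroup.mem_centralizer_iff]
  intro h hh
  obtain ⟨n, rfl⟩ := Subgroup.mem_zpowers_iff.1 hh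
  exact ((rels.2.2.1 k hk).2.zpow_left n).eq

theorem y_mem : y ∈ C0 := by
  have hk : ∀ k ∈ [1, 2, kd], E k ∈ C0 := fun k hk =>
    Subgroup.subset_closure ⟨k, by revert k hk; decide, rfl⟩
  rw [rels.2.1]
  exact C0.pow_mem (C0.mul_mem (C0.mul_mem (hk 1 (by simp)) (hk 2 (by simp)))
    (hk kd (by simp))) 5

theorem C0_perfect : Group.IsPerfect C0 := by
  refine ⟨?_⟩
  rw [← Abelianization.ker_of C0, MonoidHom.ker_eq_top_iff]
  have hg : ∀ k ∈ cyK, E k ∈ C0 := fun k hk => Subgroup.subset_closure ⟨k, hk, rfl⟩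
  let q : ∀ k ∈ cyK, Abelianization C0 := fun k hk => Abelianization.of ⟨E k, hg k hk⟩
  obtain ⟨-, -, hi, r1, r2, r3, r4, r5, r6⟩ := rels
  have hsq : ∀ k (hk : k ∈ cyK), q k hk * q k hk = 1 := fun k hk => by
    show Abelianization.of _ * Abelianization.of _ = 1
    rw [← map_mul, ← map_one Abelianization.of]
    exact congrArg _ (Subtype.ext (hi k hk).1)
  have hodd : ∀ i (hi' : i ∈ cyK) j (hj : j ∈ cyK) (m : ℕ), (E i * E j) ^ (2 * m + 1) = 1 →
      q i hi' = q j hj := by
    intro i hi' j hj m h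
    have h' : (q i hi' * q j hj) ^ (2 * m + 1) = 1 := by
      show (Abelianization.of _ * Abelianization.of _) ^ _ = 1
      rw [← map_mul, ← map_pow, ← map_one Abelianization.of]
      exact congrArg _ (Subtype.ext h)
    rw [pow_succ, pow_mul, pow_two, mul_mul_mul_comm, hsq i hi', hsq j hj, one_mul, one_pow, one_mul] at h'
    rw [eq_inv_of_mul_eq_one_left h', inv_eq_iff_mul_eq_one.2 (hsq j hj)]
  have m0 : (0 : ℕ) ∈ cyK := by decide
  have m1 : (1 : ℕ) ∈ cyK := by decide
  have m2 : (2 : ℕ) ∈ cyK := by decide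
  have m5 : (5 : ℕ) ∈ cyK := by decide
  have m6 : (6 : ℕ) ∈ cyK := by decide
  have md : kd ∈ cyK := by decide
  have h0 : q 0 m0 = 1 := by
    have h' : (q 6 m6 * q 5 m5) ^ 2 = q 0 m0 := by
      show (Abelianization.of _ * Abelianization.of _) ^ _ = _
      rw [← map_mul, ← map_pow]
      exact congrArg _ (Subtype.ext r6)
    rw [← h', pow_two, mul_mul_mul_comm, hsq 6 m6, hsq 5 m5, one_mul]
  have h1 : q 1 m1 = 1 := (hodd 1 m1 0 m0 2 r5).trans h0
  have hall : ∀ k (hk : k ∈ cyK), q k hk = 1 := by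
    intro k hk
    have hk' := hk
    simp only [cyK, List.mem_cons, List.not_mem_nil, or_false] at hk'
    rcases hk' with rfl | rfl | rfl | rfl | rfl | rfl
    exacts [h0, h1, (hodd 2 m2 1 m1 1 r1).trans h1, (hodd 5 m5 1 m1 1 r2).trans h1,
      (hodd 6 m6 1 m1 1 r3).trans h1, (hodd kd md 1 m1 1 r4).trans h1]
  ext ⟨x, hx⟩
  simp only [MonoidHom.one_apply]
  induction hx using Subgroup.closure_induction with
  | mem x hx => obtain ⟨k, hk, rfl⟩ := hx; exact hall k hk
  | one => exact map_one Abelianization.of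
  | mul a b ha hb iha ihb =>
    rw [show (⟨a * b, _⟩ : C0) = ⟨a, ha⟩ * ⟨b, hb⟩ from rfl, map_mul, iha, ihb, one_mul]
  | inv a ha iha => rw [show (⟨a⁻¹, _⟩ : C0) = ⟨a, ha⟩⁻¹ from rfl, map_inv, iha, inv_one]

theorem fix_of_mem_Y {z : S} (hz : z ∈ Y) {i : Fin dG.n} (hi : ρ y i = i) : ρ z i = i := by
  have h : Y ≤ (MulAction.stabilizer (Equiv.Perm (Fin dG.n)) i).comap ρ :=
    Subgroup.zpowers_le.2 hi
  exact h hz

theorem card_Ny_le : Nat.card Ny ≤ 19595520 := by
  have hle : Ny.map ρ ≤ PermData.fixing I [] := fun σ hσ => by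
    obtain ⟨g, -, rfl⟩ := hσ
    exact ⟨range_le ⟨g, rfl⟩, fun i hi => by simp at hi⟩
  have h0 : Nat.card (PermData.fixing I []) ≤ (levGs.map Level.len).prod :=
    (Nat.card_le_card_of_injective (fun σ : PermData.fixing I [] =>
      (⟨σ, σ.2.1⟩ : PermData.grp I)) fun a b h => Subtype.ext (congrArg Subtype.val h :)).trans
      card_grp
  have hK : ∀ σ ∈ Ny.map ρ, ∀ i, ρ y i = i → ρ y (σ i) = σ i := by
    rintro _ ⟨g, hg, rfl⟩ i hi
    have hm : g⁻¹ * y * g ∈ Y :=
      (Subgroup.mem_normalizer_iff''.1 hg y).1 (Subgroup.mem_zpowers y)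
    have h := fix_of_mem_Y hm hi
    rw [map_mul, map_mul, Equiv.Perm.mul_apply, Equiv.Perm.mul_apply, map_inv,
      Equiv.Perm.inv_eq_iff_eq] at h
    exact h
  have h := fixPreserve_le I dG_words ky (ρ y) (fun i => E_spec (by decide) i) _ hK levGs fls []
    levGs_ok fls_ok h0
  rw [inf_eq_right.2 hle, fls_prod] at h
  rwa [Subgroup.card_map_of_injective ρ_injective] at h

theorem E3_invol : E 3 * E 3 = 1 := by
  have h := okEq_spec (w := [3, 3]) (v := []) (by decide +kernel)
  simpa using h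

theorem E3_mem : E 3 ∈ Ny ∧ E 3 ∉ Cy := by
  have hi : (E 3)⁻¹ = E 3 := inv_eq_iff_mul_eq_one.2 E3_invol
  have hsq : E 3 * y * E 3 = y ^ 2 := by rw [rels.1.2.2, ← rels.1.2.1, pow_two]
  constructor
  · have hmap : Y.map (MulAut.conj (E 3)).toMonoidHom = Y := by
      rw [MonoidHom.map_zpowers, show (MulAut.conj (E 3)).toMonoidHom y = y ^ 2 by simp [hi, hsq]]
      refine Subgroup.eq_of_le_of_card_ge
        (Subgroup.zpowers_le.2 (Subgroup.pow_mem _ (Subgroup.mem_zpowers y) 2)) ?_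
      rw [Nat.card_zpowers, Nat.card_zpowers, orderOf_pow' _ two_ne_zero, orderOf_y]
      decide
    rw [Subgroup.mem_normalizer_iff]
    intro h
    constructor
    · intro hh
      exact hmap ▸ ⟨h, hh, rfl⟩
    · intro hh
      rw [← hmap] at hh
      obtain ⟨x, hx, hxe⟩ := hh
      have : x = h := by simpa using hxe
      exact this ▸ hx
  · intro h
    have hc : y * E 3 = E 3 * y := Subgroup.mem_centralizer_iff.1 h y (Subgroup.mem_zpowers y)
    rw [← hc, mul_assoc, E3_invol, mul_one, pow_two, left_eq_mul] at hsq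
    exact y_ne_one hsq

/-- the permutation of the objects induced by a generator -/
def qf (k : ℕ) (j : Fin 112) : Fin 112 := Fin.ofNat 112 ((qPerm.getD k []).getD j 0)

theorem qf_spec {k : ℕ} (hk : k < 6) (j : Fin 112) :
    (qf k j : ℕ) = (qPerm.getD k []).getD j 0 ∧ qf k (qf k j) = j ∧
      ∀ i ∈ Data.fixL, Nat.testBit (objM.getD j 0) i = true →
        Nat.testBit (objM.getD (qf k j) 0) (dG.img (cyK.getD k 0) i) = true := by
  have h := allBelow_spec (allBelow_spec actOK_eq k hk) j j.2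
  simp only [Bool.and_eq_true, Nat.blt_eq, Nat.beq_eq, List.all_eq_true, Bool.or_eq_true,
    Bool.not_eq_true'] at h
  have e : (qf k j : ℕ) = (qPerm.getD k []).getD j 0 := Nat.mod_eq_of_lt h.1.1
  refine ⟨e, Fin.ext ?_, fun i hi ht => ?_⟩
  · show ((qPerm.getD k []).getD (qf k j : ℕ) 0) % 112 = (j : ℕ)
    rw [e, h.1.2, Nat.mod_eq_of_lt j.2]
  · rw [e]
    exact (h.2 i hi).resolve_left (by rw [ht]; simp)

/-- the permutation of the objects induced by a generator, as a permutation -/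
noncomputable def qP (k : ℕ) : Equiv.Perm (Fin 112) :=
  if hk : k < 6 then Function.Involutive.toPerm (qf k) fun j => (qf_spec hk j).2.1 else 1

/-- the objects -/
def obj (j : Fin 112) : Set (Fin dG.n) := {i | Nat.testBit (objM.getD j 0) i = true}

theorem objM_mem (j : Fin 112) : objM.getD j 0 ∈ objM := by
  have h := objFixOK_eq
  simp only [objFixOK, Bool.and_eq_true, Nat.beq_eq] at h
  rw [List.getD_eq_getElem _ _ (by rw [h.2]; exact j.2)]
  exact List.getElem_mem _

theorem mem_fixL {j : Fin 112} {i : Fin dG.n} (hi : i ∈ obj j) : (i : ℕ) ∈ Data.fixL := by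
  have h := objFixOK_eq
  simp only [objFixOK, Bool.and_eq_true, List.all_eq_true, Nat.beq_eq] at h
  have hm : (objM.getD j 0).testBit i = true := hi
  rw [← h.1.2 _ (objM_mem j), show Nat.land (objM.getD j 0) fixM = objM.getD j 0 &&& fixM from rfl,
    Nat.testBit_and, Bool.and_eq_true] at hm
  have := allBelow_spec h.1.1.2 i i.2
  simpa [hm.2] using this

theorem obj_fixed {j : Fin 112} {i : Fin dG.n} (hi : i ∈ obj j) : ρ y i = i := by
  have h := objFixOK_eq
  simp only [objFixOK, Bool.and_eq_true, List.all_eq_true, Nat.beq_eq] at h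
  exact Fin.ext ((E_spec (by decide) i).trans (h.1.1.1 _ (mem_fixL hi)).1.2)

theorem obj_injective : Function.Injective obj := by
  intro a b hab
  have hl : objM.length = 112 := by decide +kernel
  have hs := objM_small
  simp only [List.all_eq_true, Nat.blt_eq] at hs
  have e : objM.getD a 0 = objM.getD b 0 := by
    refine Nat.eq_of_testBit_eq fun i => ?_
    by_cases hi : i < 1782
    · have h := Set.ext_iff.1 hab ⟨i, hi⟩
      exact Bool.eq_iff_iff.2 h
    · have hb : ∀ j : Fin 112, objM.getD j 0 < 2 ^ i := fun j =>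
        lt_of_lt_of_le (hs _ (objM_mem j)) (Nat.pow_le_pow_right (by norm_num) (by omega))
      rw [Nat.testBit_eq_false_of_lt (hb a), Nat.testBit_eq_false_of_lt (hb b)]
  rw [List.getD_eq_getElem _ _ (by rw [hl]; exact a.2),
    List.getD_eq_getElem _ _ (by rw [hl]; exact b.2), objM_nodup.getElem_inj_iff] at e
  exact Fin.ext e

theorem cyK_getD {k : ℕ} (hk : k < 6) : cyK.getD k 0 ∈ cyK ∧ cyK.getD k 0 < 28 := by
  interval_cases k <;> decide

theorem exists_pos {x : ℕ} (hx : x ∈ cyK) : ∃ k < 6, cyK.getD k 0 = x := by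
  obtain ⟨k, hk, rfl⟩ := List.getElem_of_mem hx
  exact ⟨k, hk, List.getD_eq_getElem _ _ hk⟩

theorem gen_smul_obj {k : ℕ} (hk : k < 6) (j : Fin 112) :
    ρ (E (cyK.getD k 0)) • obj j = obj (qP k j) := by
  have hq : qP k j = qf k j := by rw [qP, dif_pos hk]; rfl
  rw [hq]
  have hsub : ∀ j, ∀ i ∈ obj j, ρ (E (cyK.getD k 0)) i ∈ obj (qf k j) := fun j i hi => by
    show Nat.testBit _ _ = true
    rw [E_spec (cyK_getD hk).2]
    exact (qf_spec hk j).2.2 i (mem_fixL hi) hi
  ext i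
  constructor
  · rintro ⟨x, hx, rfl⟩
    exact hsub j x hx
  · intro hi
    have h := hsub _ i hi
    rw [(qf_spec hk j).2.1] at h
    refine ⟨_, h, ?_⟩
    show ρ (E (cyK.getD k 0)) (ρ (E (cyK.getD k 0)) i) = i
    rw [← Equiv.Perm.mul_apply, ← map_mul, (rels.2.2.1 _ (cyK_getD hk).1).1, map_one,
      Equiv.Perm.one_apply]

theorem C0_map_le : C0.map ρ ≤ equivarSub obj (MonoidHom.id (Equiv.Perm (Fin 112))) := by
  rw [Subgroup.map_le_iff_le_comap, C0, Subgroup.closure_le]
  rintro _ ⟨x, hx, rfl⟩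
  obtain ⟨k, hk, rfl⟩ := exists_pos hx
  exact ⟨qP k, gen_smul_obj hk⟩

/-- the action of the centraliser on the objects -/
noncomputable def θ : C0 →* Equiv.Perm (Fin 112) :=
  (equivarHom obj_injective (ρ := MonoidHom.id (Equiv.Perm (Fin 112))) (fun _ _ h => h)
    (C0.map ρ) C0_map_le).comp (ρ.subgroupMap C0)

theorem θ_spec (g : C0) (j : Fin 112) : ρ (g : S) • obj j = obj (θ g j) :=
  equivarHom_spec obj_injective (fun _ _ h => h) (C0.map ρ) C0_map_le (ρ.subgroupMap C0 g) j

theorem θ_eq {g : C0} {m : Equiv.Perm (Fin 112)} (hm : ∀ j, ρ (g : S) • obj j = obj (m j)) :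
    θ g = m :=
  equivarHom_eq obj_injective (fun _ _ h => h) (C0.map ρ) C0_map_le hm

theorem θ_gen {k : ℕ} (hk : k < 6) :
    θ ⟨E (cyK.getD k 0), Subgroup.subset_closure ⟨_, (cyK_getD hk).1, rfl⟩⟩ = qP k :=
  θ_eq (gen_smul_obj hk)

theorem θ_y : θ ⟨y, y_mem⟩ = 1 := by
  refine θ_eq fun j => ?_
  ext i
  constructor
  · rintro ⟨x, hx, rfl⟩
    show ρ y x ∈ obj j
    rw [obj_fixed hx]
    exact hx
  · intro hi
    exact ⟨i, hi, obj_fixed hi⟩

theorem qP_word (w : List ℕ) (hw : ∀ k ∈ w, k < 6) (j : Fin 112) :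
    (((w.map qP).prod j : Fin 112) : ℕ) =
      w.foldr (fun k i => (qPerm.getD k []).getD i 0) j := by
  induction w with
  | nil => rfl
  | cons k w ih =>
    have hk := hw k (List.mem_cons_self ..)
    rw [List.map_cons, List.prod_cons, Equiv.Perm.mul_apply, List.foldr_cons,
      ← ih fun i hi => hw i (List.mem_cons_of_mem _ hi)]
    rw [show qP k ((w.map qP).prod j) = qf k ((w.map qP).prod j) by rw [qP, dif_pos hk]; rfl,
      (qf_spec hk _).1]

theorem model_le : McLUnitary.model ≤ θ.range := by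
  have hq : ∀ w : List ℕ, (∀ k ∈ w, k < 6) → (w.map qP).prod ∈ θ.range := fun w hw => by
    refine Subgroup.list_prod_mem _ fun x hx => ?_
    obtain ⟨k, hk, rfl⟩ := List.mem_map.1 hx
    exact ⟨_, θ_gen (hw k hk)⟩
  have hw := fun j : Fin 112 => allBelow_spec wordsOK_eq j j.2
  simp only [Bool.and_eq_true, List.all_eq_true, List.mem_append, Nat.beq_eq, Nat.blt_eq] at hw
  have hA : ∀ k ∈ wA, k < 6 := fun k hk => (hw 0).2 k (Or.inl hk)
  have hB : ∀ k ∈ wB, k < 6 := fun k hk => (hw 0).2 k (Or.inr hk)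
  rw [McLUnitary.model, Subgroup.closure_le]
  rintro x (rfl | rfl)
  · rw [show McLUnitary.pA = (wA.map qP).prod from
      Equiv.ext fun j => Fin.ext (by rw [qP_word _ hA, McLUnitary.pA_val, (hw j).1.1])]
    exact hq _ hA
  · rw [show McLUnitary.pB = (wB.map qP).prod from
      Equiv.ext fun j => Fin.ext (by rw [qP_word _ hB, McLUnitary.pB_val, (hw j).1.2])]
    exact hq _ hB

theorem counts : C0 = Cy ∧ Nat.card Cy = 9797760 ∧ Nat.card Ny = 19595520 ∧
    θ.range = McLUnitary.model ∧ θ.ker = Y.subgroupOf C0 := by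
  have hr : 3265920 ≤ Nat.card θ.range := le_trans McLUnitary.le_card_model
    (Nat.le_of_dvd Nat.card_pos (Subgroup.card_dvd_of_le model_le))
  have hY : Y ≤ C0 := Subgroup.zpowers_le.2 y_mem
  have hk : Y.subgroupOf C0 ≤ θ.ker := by
    rintro ⟨x, hx⟩ h
    obtain ⟨n, rfl⟩ := Subgroup.mem_zpowers_iff.1 (Subgroup.mem_subgroupOf.1 h)
    rw [MonoidHom.mem_ker, show (⟨y ^ n, hx⟩ : C0) = ⟨y, y_mem⟩ ^ n from
      Subtype.ext (Subgroup.coe_zpow C0 ⟨y, y_mem⟩ n).symm, map_zpow, θ_y, one_zpow]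
  have hY3 : Nat.card (Y.subgroupOf C0) = 3 := by
    rw [Nat.card_congr (Subgroup.subgroupOfEquivOfLe hY).toEquiv, card_Y]
  have hker : 3 ≤ Nat.card θ.ker :=
    hY3 ▸ Nat.le_of_dvd Nat.card_pos (Subgroup.card_dvd_of_le hk)
  have hmul : Nat.card θ.ker * Nat.card θ.range = Nat.card C0 := by
    rw [← Subgroup.index_ker, Subgroup.card_mul_index]
  have hC : Nat.card C0 ≤ Nat.card Cy := Nat.le_of_dvd Nat.card_pos (Subgroup.card_dvd_of_le C0_le)
  have hle : Cy ≤ Ny := Subgroup.centralizer_le_normalizer _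
  have hN : Nat.card Cy * 2 ≤ Nat.card Ny := by
    have e := (Cy.subgroupOf Ny).card_mul_index
    rw [Nat.card_congr (Subgroup.subgroupOfEquivOfLe hle).toEquiv] at e
    rw [← e]
    refine Nat.mul_le_mul_left _ ?_
    have h1 : (Cy.subgroupOf Ny).index ≠ 1 := fun h => by
      rw [Subgroup.index_eq_one, Subgroup.subgroupOf_eq_top] at h
      exact E3_mem.2 (h E3_mem.1)
    have h0 : (Cy.subgroupOf Ny).index ≠ 0 := Subgroup.index_ne_zero_of_finite
    omega
  have hN' := card_Ny_le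
  have hge : 3 * 3265920 ≤ Nat.card C0 := hmul ▸ Nat.mul_le_mul hker hr
  have eC : Nat.card C0 = 9797760 := by omega
  have eCy : Nat.card Cy = 9797760 := by omega
  have ek : Nat.card θ.ker = 3 := by
    refine le_antisymm ?_ hker
    by_contra hlt
    have := Nat.mul_le_mul (show 4 ≤ Nat.card θ.ker by omega) hr
    omega
  refine ⟨Subgroup.eq_of_le_of_card_ge C0_le (by omega), eCy, by omega, ?_,
    (Subgroup.eq_of_le_of_card_ge hk (by omega)).symm⟩
  refine (Subgroup.eq_of_le_of_card_ge model_le ?_).symm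
  rw [ek] at hmul
  have := McLUnitary.le_card_model
  omega

theorem C0_eq : C0 = Cy := counts.1

theorem relIndex_Cy : Cy.relIndex Ny = 2 := by
  have hle : Cy ≤ Ny := Subgroup.centralizer_le_normalizer _
  have e := (Cy.subgroupOf Ny).card_mul_index
  rw [Nat.card_congr (Subgroup.subgroupOfEquivOfLe hle).toEquiv, counts.2.1, counts.2.2.1] at e
  rw [Subgroup.relIndex]
  omega

theorem C0_center : Subgroup.center C0 = θ.ker := by
  apply le_antisymm
  · have hS : IsSimpleGroup θ.range := by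
      classical
      haveI := Fintype.ofFinite (GaloisField 3 2)
      obtain ⟨e⟩ := McLUnitary.psu_equiv_model
        (F := GaloisField 3 2) (by rw [Fintype.card_eq_nat_card, GaloisField.card 3 2 two_ne_zero]; rfl)
      rw [counts.2.2.2.1]
      haveI := CfsgLib.Classical.Unitary.isSimpleGroup_PSU (n := 4) (q := 3) (F := GaloisField 3 2)
        (by rw [GaloisField.card 3 2 two_ne_zero]) (by norm_num) (by norm_num)
      exact e.symm.isSimpleGroup
    have hn : ((Subgroup.center C0).map θ.rangeRestrict).Normal :=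
      Subgroup.Normal.map inferInstance _ θ.rangeRestrict_surjective
    rcases hS.eq_bot_or_eq_top_of_normal _ hn with h | h
    · intro x hx
      have h' := Subgroup.mem_map_of_mem θ.rangeRestrict hx
      rw [h, Subgroup.mem_bot] at h'
      exact congrArg Subtype.val h'
    · haveI : Group.IsPerfect C0 := C0_perfect
      haveI : Group.IsPerfect θ.range := Group.IsPerfect.ofSurjective θ.rangeRestrict_surjective
      haveI := hS.toNontrivial
      refine absurd ⟨⟨fun a b => ?_⟩⟩ (Group.IsPerfect.not_isMulCommutative θ.range)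
      obtain ⟨u, hu, rfl⟩ := h.ge (Subgroup.mem_top a)
      obtain ⟨v, hv, rfl⟩ := h.ge (Subgroup.mem_top b)
      rw [← map_mul, ← map_mul, Subgroup.mem_center_iff.1 hu v]
  · intro x hx
    rw [counts.2.2.2.2, Subgroup.mem_subgroupOf] at hx
    rw [Subgroup.mem_center_iff]
    intro g
    exact Subtype.ext (Subgroup.mem_centralizer_iff.1 (C0_le g.2) _ hx).symm

theorem center_Cy : Subgroup.center Cy = Y.subgroupOf Cy := by
  rw [← C0_eq, C0_center, counts.2.2.2.2]

theorem psu_equiv (K : Type) [Field K] [Fintype K] (hK : Fintype.card K = 9) :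
    Nonempty (C0 ⧸ Subgroup.center C0 ≃* Cfsg.PSU 4 K 3) := by
  obtain ⟨e⟩ := McLUnitary.psu_equiv_model hK
  exact ⟨(((QuotientGroup.quotientMulEquivOfEq C0_center).trans
    (QuotientGroup.quotientKerEquivRange θ)).trans
      (MulEquiv.subgroupCongr counts.2.2.2.1)).trans e.symm⟩

theorem quasisimple_C0 : Cfsg.IsQuasisimple C0 := by
  classical
  haveI := Fintype.ofFinite (GaloisField 3 2)
  obtain ⟨e⟩ := psu_equiv (GaloisField 3 2)
    (by rw [Fintype.card_eq_nat_card, GaloisField.card 3 2 two_ne_zero]; rfl)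
  haveI := CfsgLib.Classical.Unitary.isSimpleGroup_PSU (n := 4) (q := 3) (F := GaloisField 3 2)
    (by rw [GaloisField.card 3 2 two_ne_zero]) (by norm_num) (by norm_num)
  exact ⟨C0_perfect, e.isSimpleGroup⟩

end CfsgLib.Spor.SuzThree
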