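import Cfsg.Agent.Lib.Spor.SuzThree.Base
import Cfsg.Agent.Lib.PresCert.CentralizerBound
import Cfsg.Agent.Lib.Spor.McLUnitary.Data

/-!
Kernel checks for the centraliser of an element of order three.
-/

set_option autoImplicit false
set_option maxRecDepth 100000

namespace CfsgLib.Spor.SuzThree

open CfsgLib.PresCert Data

/-- relations in the centraliser -/
noncomputable def relsOK : Bool :=
  okEq [ky, ky, ky] [] && okEq [ky, ky] [ky2] && okEq [3, ky, 3] [ky2] &&
    okEq [kd, 2, 1, kd, 2, 1, kd, 2, 1, kd, 2, 1, kd, 2, 1] [ky] &&
    (cyK.all fun k => okEq [k, k] [] && okEq [k, ky] [ky, k]) &&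
    okEq [1, 2, 1, 2, 1, 2] [] && okEq [1, 5, 1, 5, 1, 5] [] && okEq [1, 6, 1, 6, 1, 6] [] &&
    okEq [1, kd, 1, kd, 1, kd] [] && okEq [0, 1, 0, 1, 0, 1, 0, 1, 0, 1] [] &&
    okEq [5, 6, 5, 6] [0]

theorem relsOK_eq : relsOK = true := by decide +kernel

/-- the fixed point lists -/
theorem fls_ok : dG.okFixed ky levGs fls = true := by decide +kernel

theorem fls_prod : (fls.map List.length).prod = 19595520 := by decide +kernel

/-- the fixed points of the element of order three -/
noncomputable def fixOK : Bool :=
  allBelow 1782 fun i => !(Nat.beq (dG.img ky i) i) || Data.fixL.contains i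

theorem fixOK_eq : fixOK = true := by decide +kernel

/-- the objects consist of fixed points -/
noncomputable def objFixOK : Bool :=
  (Data.fixL.all fun i => Nat.blt i 1782 && Nat.beq (dG.img ky i) i && Nat.testBit fixM i) &&
    (allBelow 1782 fun i => !(Nat.testBit fixM i) || Data.fixL.contains i) &&
    (objM.all fun m => Nat.beq (Nat.land m fixM) m) && Nat.beq objM.length 112

theorem objFixOK_eq : objFixOK = true := by decide +kernel

theorem objM_nodup : objM.Nodup := by decide +kernel

theorem objM_small : (objM.all fun m => Nat.blt m (2 ^ 1782)) = true := by decide +kernel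

/-- the action of the generators on the objects -/
noncomputable def actOK : Bool :=
  allBelow 6 fun k =>
    allBelow 112 fun j =>
      let j' := (qPerm.getD k []).getD j 0
      Nat.blt j' 112 && Nat.beq ((qPerm.getD k []).getD j' 0) j &&
        Data.fixL.all fun i => !(Nat.testBit (objM.getD j 0) i) ||
          Nat.testBit (objM.getD j' 0) (dG.img (cyK.getD k 0) i)

theorem actOK_eq : actOK = true := by decide +kernel

/-- the two words for the generators of the model -/
noncomputable def wordsOK : Bool :=
  allBelow 112 fun j =>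
    Nat.beq (wA.foldr (fun k i => (qPerm.getD k []).getD i 0) j) (McLUnitary.permA.getD j 0) &&
      Nat.beq (wB.foldr (fun k i => (qPerm.getD k []).getD i 0) j) (McLUnitary.permB.getD j 0) &&
        (wA ++ wB).all fun k => Nat.blt k 6

theorem wordsOK_eq : wordsOK = true := by decide +kernel

/-- the objects are connected -/
noncomputable def treeOK : Bool :=
  Nat.beq objTree.length 112 && (objTree.map (·.1)).Nodup &&
    Nat.beq (objTree.getD 0 (0, 0, 0)).1 j0 &&
    allBelow 112 fun p =>
      let e := objTree.getD p (0, 0, 0)
      Nat.blt e.1 112 && (Nat.beq p 0 || (Nat.blt e.2.1 p && Nat.blt e.2.2 6 &&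
        Nat.beq ((qPerm.getD e.2.2 []).getD (objTree.getD e.2.1 (0, 0, 0)).1 0) e.1))

theorem treeOK_eq : treeOK = true := by decide +kernel

end CfsgLib.Spor.SuzThree
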