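import Cfsg.Agent.Lib.Spor.SuzThree.Base
import Cfsg.Agent.Lib.Spor.SuzThree.TabA

/-!
Kernel checks for the normaliser of an elementary abelian group of order 243.
-/

set_option autoImplicit false
set_option maxRecDepth 100000

namespace CfsgLib.Spor.SuzThree

open CfsgLib.PresCert Data

/-- a base three digit -/
def dig (e i : ℕ) : ℕ := e / 3 ^ i % 3

/-- the word of a code -/
def cw (e : ℕ) : List ℕ :=
  List.replicate (dig e 0) (aK.getD 0 0) ++ (List.replicate (dig e 1) (aK.getD 1 0) ++
    (List.replicate (dig e 2) (aK.getD 2 0) ++ (List.replicate (dig e 3) (aK.getD 3 0) ++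
      List.replicate (dig e 4) (aK.getD 4 0))))

/-- the codes of the elements with fixed points -/
def yAll : List ℕ := yCodes.flatMap fun q => [q.1, q.2]

/-- the generators -/
noncomputable def aOK : Bool :=
  (aK.all fun k => okEq [k, k, k] [] && aK.all fun l => okEq [k, l] [l, k]) &&
    Nat.beq aK.length 5

theorem aOK_eq : aOK = true := by decide +kernel

theorem codes_distinct :
    ((List.range 243).map fun e => reps.map (dG.app (cw e))).Nodup := by decide +kernel

/-- elements with fixed points -/
noncomputable def fixedOK : Bool :=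
  reps.all fun r => Nat.blt r 1782 &&
    allBelow 243 fun e => Nat.beq e 0 || !(Nat.beq (dG.app (cw e) r) r) || yAll.contains e

theorem fixedOK_eq : fixedOK = true := by decide +kernel

/-- every point lies in a listed orbit -/
noncomputable def coverOK : Bool :=
  allBelow 1782 fun i =>
    let t := coverTab.half i
    Nat.blt (t / 243) 22 && Nat.beq (dG.app (cw (t % 243)) (reps.getD (t / 243) 0)) i

theorem coverOK_eq : coverOK = true := by decide +kernel

/-- the eleven subgroups -/
noncomputable def yOK : Bool :=
  Nat.beq yCodes.length 11 && yAll.Nodup &&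
    yCodes.all fun q => Nat.blt 0 q.1 && Nat.blt q.1 243 && Nat.blt 0 q.2 && Nat.blt q.2 243 &&
      okEq (cw q.1 ++ cw q.1) (cw q.2) &&
      reps.any fun r => Nat.beq (dG.app (cw q.1) r) r

theorem yOK_eq : yOK = true := by decide +kernel

/-- the two orbits of fixed points -/
noncomputable def orbOK : Bool :=
  Nat.beq o1M (objM.getD j0 0) && !(objM.contains o2M) && Nat.blt o2M (2 ^ 1782) &&
    (Data.fixL.all fun x => Nat.testBit o1M x || Nat.testBit o2M x) &&
    (o1L.all fun x => Nat.blt x 1782 && Nat.testBit o1M x &&
      Nat.beq (coverTab.half x / 243) (coverTab.half (o1L.getD 0 0) / 243)) &&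
    (o2L.all fun x => Nat.blt x 1782 && Nat.testBit o2M x &&
      Nat.beq (coverTab.half x / 243) (coverTab.half (o2L.getD 0 0) / 243)) &&
    (Data.fixL.all fun x => (!(Nat.testBit o1M x) || o1L.contains x) &&
      (!(Nat.testBit o2M x) || o2L.contains x)) &&
    (aK.all fun k => (o1L.all fun x => Nat.testBit o1M (dG.img k x)) &&
      o2L.all fun x => Nat.testBit o2M (dG.img k x)) &&
    Nat.beq (Nat.land o1M fixM) o1M && Nat.beq (Nat.land o2M fixM) o2M

theorem orbOK_eq : orbOK = true := by decide +kernel

/-- two elements of the normaliser -/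
noncomputable def uOK : Bool :=
  allBelow 2 fun k =>
    let u := uK.getD k 0
    let v := uInv.getD k 0
    okEq [u, v] [] && okEq [v, u] [] &&
      (allBelow 5 fun i =>
        okEq [v, aK.getD i 0, u] (cw ((conjA.getD k []).getD i 0)) &&
        okEq [u, aK.getD i 0, v] (cw ((conjAi.getD k []).getD i 0))) &&
      allBelow 11 fun j =>
        let c := (conjY.getD k []).getD j 0
        let q := yCodes.getD (d11.img k j) (0, 0)
        Nat.blt (d11.img k j) 11 && (Nat.beq c q.1 || Nat.beq c q.2) &&
          okEq (v :: cw (yCodes.getD j (0, 0)).1 ++ [u]) (cw c)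

theorem uOK_eq : uOK = true := by decide +kernel

theorem d11_words : d11.okWords d11.g d11.words = true := by decide +kernel

theorem lev11_ok : d11.okLevels [] lev11s = true := by decide +kernel

theorem lev11_prod : (lev11s.map Level.len).prod = 7920 := by decide +kernel

/-- the two permutations have order eleven -/
theorem d11_order : (allBelow 2 fun k => d11.okWords d11.g [] && allBelow 11 fun i =>
    Nat.beq (d11.app (List.replicate 11 k) i) i) = true := by decide +kernel

end CfsgLib.Spor.SuzThree
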