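import Cfsg.Agent.Lib.Spor.SuzThree.Cent
import Cfsg.Agent.Lib.Spor.SuzThree.ChkLocal
import Cfsg.Agent.Lib.Small.Order7920Mathieu
import Cfsg.Prelude.Def_Transfer

/-!
An elementary abelian subgroup of order 243 of the presented Suzuki group, self-centralising,
with normaliser quotient `M₁₁`.
-/

set_option autoImplicit false
set_option maxRecDepth 100000

namespace CfsgLib.Spor.SuzThree

open CfsgLib.PresCert CfsgLib.Spor Data
open scoped Pointwise IsMulCommutative

/-- the elementary abelian subgroup -/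
noncomputable def A0 : Subgroup S := Subgroup.closure {x | ∃ k ∈ aK, E k = x}

/-- the normaliser -/
noncomputable abbrev Na : Subgroup S := Subgroup.normalizer ((A0 : Subgroup S) : Set S)

/-- the element of a code -/
noncomputable def El (e : ℕ) : S := P (cw e)

theorem aK_getD {i : ℕ} (hi : i < 5) : aK.getD i 0 ∈ aK ∧ aK.getD i 0 < 28 := by
  interval_cases i <;> decide

theorem aK_pos {k : ℕ} (hk : k ∈ aK) : ∃ i : Fin 5, aK.getD i 0 = k := by
  obtain ⟨i, hi, rfl⟩ := List.getElem_of_mem hk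
  exact ⟨⟨i, hi⟩, List.getD_eq_getElem _ _ hi⟩

theorem a_rels : ∀ k ∈ aK, E k ^ 3 = 1 ∧ ∀ l ∈ aK, E k * E l = E l * E k := by
  have h := aOK_eq
  simp only [aOK, Bool.and_eq_true, List.all_eq_true] at h
  intro k hk
  have h1 := okEq_spec (h.1 k hk).1
  simp only [P_cons, P_nil, one_mul] at h1
  refine ⟨by rw [pow_succ, pow_two]; exact h1, fun l hl => ?_⟩
  have h2 := okEq_spec ((h.1 k hk).2 l hl)
  simp only [P_cons, P_nil, one_mul] at h2
  exact h2.symm

instance comm_A0 : IsMulCommutative A0 :=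
  Subgroup.isMulCommutative_closure <| by
    rintro _ ⟨k, hk, rfl⟩ _ ⟨l, hl, rfl⟩
    exact (a_rels k hk).2 l hl

/-- the generators inside the subgroup -/
noncomputable def β (i : Fin 5) : A0 :=
  ⟨E (aK.getD i 0), Subgroup.subset_closure ⟨_, (aK_getD i.2).1, rfl⟩⟩

/-- products of powers of the generators -/
noncomputable def gv (v : Fin 5 → ℕ) : A0 := ∏ i, β i ^ v i

theorem gv_add (v w : Fin 5 → ℕ) : gv v * gv w = gv (v + w) := by
  simp only [gv, ← Finset.prod_mul_distrib, Pi.add_apply, pow_add]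

theorem gv_cube (v : Fin 5 → ℕ) : gv v ^ 3 = 1 := by
  rw [gv, ← Finset.prod_pow]
  refine Finset.prod_eq_one fun i _ => ?_
  rw [← pow_mul, mul_comm, pow_mul, show β i ^ 3 = 1 from Subtype.ext (a_rels _ (aK_getD i.2).1).1,
    one_pow]

theorem gv_mod (v : Fin 5 → ℕ) : gv v = gv fun i => v i % 3 := by
  refine Finset.prod_congr rfl fun i _ => ?_
  exact (pow_mod_of_pow_eq_one (a := β i) 3 (v i)
    (Subtype.ext (a_rels _ (aK_getD i.2).1).1))
where
  pow_mod_of_pow_eq_one {a : A0} (n k : ℕ) (h : a ^ n = 1) : a ^ k = a ^ (k % n) := by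
    conv_lhs => rw [← Nat.mod_add_div k n, pow_add, pow_mul, h, one_pow, mul_one]

theorem P_replicate (n k : ℕ) : P (List.replicate n k) = E k ^ n := by
  induction n with
  | zero => rw [pow_zero]; rfl
  | succ n ih => rw [List.replicate_succ, P_cons, ih, pow_succ]

theorem gv_dig (e : ℕ) : (gv fun i => dig e i : S) = El e := by
  have h : gv (fun i => dig e i) =
      β 4 ^ dig e 4 * β 3 ^ dig e 3 * β 2 ^ dig e 2 * β 1 ^ dig e 1 * β 0 ^ dig e 0 := by
    rw [gv, Fin.prod_univ_five]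
    show β 0 ^ dig e 0 * β 1 ^ dig e 1 * β 2 ^ dig e 2 * β 3 ^ dig e 3 * β 4 ^ dig e 4 = _
    ac_rfl
  rw [h, El, cw, P_append, P_append, P_append, P_append]
  simp only [P_replicate, Subgroup.coe_mul, SubmonoidClass.coe_pow]
  rfl

theorem dig_surj : ∀ v : Fin 5 → Fin 3, ∃ e < 243, ∀ i : Fin 5, dig e i = (v i : ℕ) := by
  intro v
  refine ⟨v 0 + 3 * v 1 + 9 * v 2 + 27 * v 3 + 81 * v 4, by omega, fun i => ?_⟩
  fin_cases i <;> simp [dig] <;> omega

theorem exists_code {x : S} (hx : x ∈ A0) : ∃ e < 243, El e = x := by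
  have h : ∃ v, (gv v : S) = x := by
    induction hx using Subgroup.closure_induction with
    | mem x hx =>
      obtain ⟨k, hk, rfl⟩ := hx
      obtain ⟨i, rfl⟩ := aK_pos hk
      refine ⟨Pi.single i 1, ?_⟩
      show ((∏ j, β j ^ (Pi.single i 1 : Fin 5 → ℕ) j : A0) : S) = _
      rw [Finset.prod_eq_single i (fun j _ hj => by rw [Pi.single_eq_of_ne hj, pow_zero])
        (fun h => absurd (Finset.mem_univ i) h), Pi.single_eq_same, pow_one]
      rfl
    | one => exact ⟨0, by simp [gv]⟩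
    | mul a b _ _ iha ihb =>
      obtain ⟨v, rfl⟩ := iha
      obtain ⟨w, rfl⟩ := ihb
      exact ⟨v + w, by rw [← gv_add, Subgroup.coe_mul]⟩
    | inv a _ iha =>
      obtain ⟨v, rfl⟩ := iha
      refine ⟨v + v, ?_⟩
      rw [← gv_add, ← Subgroup.coe_inv]
      exact congrArg Subtype.val
        (eq_inv_of_mul_eq_one_left (by rw [← pow_two, ← pow_succ, gv_cube]))
  obtain ⟨v, rfl⟩ := h
  obtain ⟨e, he, hd⟩ := dig_surj fun i => ⟨v i % 3, Nat.mod_lt _ (by norm_num)⟩
  refine ⟨e, he, ?_⟩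
  rw [← gv_dig, gv_mod v]
  congr 1
  exact congrArg gv (funext hd)

theorem El_mem (e : ℕ) : El e ∈ A0 := gv_dig e ▸ SetLike.coe_mem _

theorem cw_lt (e : ℕ) : ∀ k ∈ cw e, k < 28 := by
  intro k hk
  simp only [cw, List.mem_append, List.mem_replicate] at hk
  rcases hk with h | h | h | h | h <;> rw [h.2] <;> exact (aK_getD (by norm_num)).2

theorem El_val (e : ℕ) (i : Fin dG.n) : ((ρ (El e) i : Fin dG.n) : ℕ) = dG.app (cw e) i :=
  P_val _ (cw_lt e) i

theorem reps_lt : ∀ r ∈ reps, r < 1782 := by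
  have h := fixedOK_eq
  simp only [fixedOK, List.all_eq_true, Bool.and_eq_true, Nat.blt_eq] at h
  exact fun r hr => (h r hr).1

theorem El_inj {e f : ℕ} (he : e < 243) (hf : f < 243) (h : El e = El f) : e = f := by
  refine List.inj_on_of_nodup_map codes_distinct (List.mem_range.2 he) (List.mem_range.2 hf)
    (List.map_congr_left fun r hr => ?_)
  have h1 := El_val e ⟨r, reps_lt r hr⟩
  rw [h, El_val] at h1
  exact h1.symm

theorem El_zero : El 0 = 1 := rfl

theorem El_one : El 1 = y := by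
  rw [El, show cw 1 = [ky] by decide, P_cons, P_nil, one_mul, y]

theorem card_A0 : Nat.card A0 = 243 := by
  let f : Fin 243 → A0 := fun e => ⟨El e, El_mem e⟩
  have hb : Function.Bijective f :=
    ⟨fun a b h => Fin.ext (El_inj a.2 b.2 (congrArg Subtype.val h :)), fun x => by
      obtain ⟨e, he, h⟩ := exists_code x.2
      exact ⟨⟨e, he⟩, Subtype.ext h⟩⟩
  rw [← Nat.card_eq_of_bijective f hb, Nat.card_fin]

theorem elementary_A0 : Cfsg.IsElementaryAbelian 3 A0 := by
  refine ⟨inferInstance, fun a ha => ?_⟩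
  obtain ⟨e, -, rfl⟩ := exists_code ha
  first
    | (rw [← gv_dig, ← SubmonoidClass.coe_pow, gv_cube]; rfl)
    | exact Subtype.ext (by rw [← gv_dig, ← SubmonoidClass.coe_pow, gv_cube]; rfl)

theorem y_mem_A0 : y ∈ A0 := El_one ▸ El_mem 1

theorem exists_rep (i : Fin dG.n) : ∃ e < 243, ∃ r : Fin dG.n, (r : ℕ) ∈ reps ∧
    (r : ℕ) = reps.getD (coverTab.half i / 243) 0 ∧ ρ (El e) r = i := by
  have h := allBelow_spec coverOK_eq i i.2
  simp only [Bool.and_eq_true, Nat.blt_eq, Nat.beq_eq] at h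
  have hl : reps.length = 22 := by decide
  have hm : reps.getD (coverTab.half i / 243) 0 ∈ reps := by
    rw [List.getD_eq_getElem _ _ (hl.symm ▸ h.1)]
    exact List.getElem_mem _
  exact ⟨_, Nat.mod_lt _ (by norm_num), ⟨_, reps_lt _ hm⟩, hm, rfl, Fin.ext (by rw [El_val, h.2])⟩

theorem A0_comm {a b : S} (ha : a ∈ A0) (hb : b ∈ A0) : a * b = b * a :=
  congrArg Subtype.val (mul_comm (⟨a, ha⟩ : A0) ⟨b, hb⟩)

theorem fixing_code {e : ℕ} (he : e < 243) (h0 : e ≠ 0) {i : Fin dG.n} (hi : ρ (El e) i = i) :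
    e ∈ yAll := by
  obtain ⟨f, -, r, hr, -, rfl⟩ := exists_rep i
  rw [← Equiv.Perm.mul_apply, ← map_mul, A0_comm (El_mem e) (El_mem f), map_mul,
    Equiv.Perm.mul_apply] at hi
  have hfix := congrArg Fin.val ((ρ (El f)).injective hi)
  rw [El_val] at hfix
  have h := fixedOK_eq
  simp only [fixedOK, List.all_eq_true, Bool.and_eq_true] at h
  have h2 := allBelow_spec (h _ hr).2 e he
  simp only [Bool.or_eq_true, Nat.beq_eq, Bool.not_eq_true', List.contains_iff_mem] at h2
  rcases h2 with (h2 | h2) | h2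
  · exact absurd h2 h0
  · rw [hfix] at h2; simp at h2
  · exact h2

/-- the code of one of the eleven subgroups -/
def yc (j : Fin 11) : ℕ × ℕ := yCodes.getD j (0, 0)

theorem yc_spec (j : Fin 11) : (0 < (yc j).1 ∧ (yc j).1 < 243 ∧ 0 < (yc j).2 ∧ (yc j).2 < 243) ∧
    El (yc j).2 = El (yc j).1 * El (yc j).1 ∧ ∃ i, ρ (El (yc j).1) i = i := by
  have h := yOK_eq
  simp only [yOK, Bool.and_eq_true, List.all_eq_true, Nat.blt_eq, List.any_eq_true, Nat.beq_eq] at h
  have hl := h.1.1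
  have hm : yc j ∈ yCodes := by
    rw [yc, List.getD_eq_getElem _ _ (hl.symm ▸ j.2)]
    exact List.getElem_mem _
  obtain ⟨⟨⟨⟨⟨p1, p2⟩, p3⟩, p4⟩, p5⟩, r, hr, p6⟩ := h.2 _ hm
  refine ⟨⟨p1, p2, p3, p4⟩, ?_, ⟨r, reps_lt r hr⟩, Fin.ext (by rw [El_val, p6])⟩
  rw [El, ← okEq_spec p5, P_append]
  rfl

theorem yc_sep {j k : Fin 11} (h : (yc j).1 = (yc k).1 ∨ (yc j).1 = (yc k).2) : j = k := by
  have key : ∀ j k : Fin 11, (yc j).1 = (yc k).1 ∨ (yc j).1 = (yc k).2 → j = k := by decide +kernel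
  exact key j k h

theorem yc_cover {e : ℕ} (he : e ∈ yAll) : ∃ j : Fin 11, e = (yc j).1 ∨ e = (yc j).2 := by
  have key : ∀ e ∈ yAll, ∃ j : Fin 11, e = (yc j).1 ∨ e = (yc j).2 := by decide +kernel
  exact key e he

/-- conjugation sends one listed subgroup to another -/
def Sends (g : S) (j k : Fin 11) : Prop :=
  g * El (yc j).1 * g⁻¹ = El (yc k).1 ∨ g * El (yc j).1 * g⁻¹ = El (yc k).2

theorem sends_exists {g : S} (hg : g ∈ Na) (j : Fin 11) : ∃ k, Sends g j k := by
  obtain ⟨⟨p1, p2, -, -⟩, -, i, hi⟩ := yc_spec j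
  have hm : g * El (yc j).1 * g⁻¹ ∈ A0 := (Subgroup.mem_normalizer_iff.1 hg _).1 (El_mem _)
  obtain ⟨e, he, hee⟩ := exists_code hm
  have h0 : e ≠ 0 := by
    rintro rfl
    rw [El_zero, eq_comm, conj_eq_one_iff, ← El_zero] at hee
    have := El_inj p2 (by norm_num) hee
    omega
  have hfix : ρ (El e) (ρ g i) = ρ g i := by
    rw [hee, ← Equiv.Perm.mul_apply, ← map_mul, inv_mul_cancel_right, map_mul,
      Equiv.Perm.mul_apply, hi]
  obtain ⟨k, hk⟩ := yc_cover (fixing_code he h0 hfix)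
  exact ⟨k, by rcases hk with rfl | rfl <;> [exact Or.inl hee.symm; exact Or.inr hee.symm]⟩

theorem sends_unique {g : S} {j k k' : Fin 11} (h : Sends g j k) (h' : Sends g j k') : k = k' := by
  obtain ⟨⟨-, a2, -, a4⟩, ak, -⟩ := yc_spec k
  obtain ⟨⟨-, b2, -, b4⟩, bk, -⟩ := yc_spec k'
  rcases h with h | h <;> rcases h' with h' | h' <;> rw [h] at h'
  · exact yc_sep (Or.inl (El_inj a2 b2 h'))
  · exact yc_sep (Or.inr (El_inj a2 b4 h'))
  · exact (yc_sep (Or.inr (El_inj b2 a4 h'.symm))).symm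
  · have e := El_inj a4 b4 h'
    have key : ∀ j k : Fin 11, (yc j).2 = (yc k).2 → j = k := by decide +kernel
    exact key k k' e

theorem sends_mul {g h : S} (hh : h ∈ Na) {j k l : Fin 11} (a : Sends g j k) (b : Sends h k l) :
    Sends (h * g) j l := by
  have e : h * g * El (yc j).1 * (h * g)⁻¹ = h * (g * El (yc j).1 * g⁻¹) * h⁻¹ := by group
  rw [Sends, e]
  rcases a with a | a <;> rw [a]
  · exact b
  · obtain ⟨-, kk, -⟩ := yc_spec k
    obtain ⟨-, ll, -⟩ := yc_spec l
    have el4 : El (yc l).2 * El (yc l).2 = El (yc l).1 := by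
      have hc : El (yc l).1 ^ 3 = 1 := elementary_A0.2 _ (El_mem _)
      rw [ll, show El (yc l).1 * El (yc l).1 * (El (yc l).1 * El (yc l).1) =
        El (yc l).1 ^ 3 * El (yc l).1 by simp only [pow_succ, pow_zero, one_mul, mul_assoc],
        hc, one_mul]
    rw [kk, ← conj_mul]
    rcases b with b | b <;> rw [b]
    · exact Or.inr ll.symm
    · exact Or.inl el4

/-- the image of an index -/
noncomputable def act (g : Na) (j : Fin 11) : Fin 11 := (sends_exists g.2 j).choose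

theorem act_spec (g : Na) (j : Fin 11) : Sends (g : S) j (act g j) :=
  (sends_exists g.2 j).choose_spec

theorem act_eq {g : Na} {j k : Fin 11} (h : Sends (g : S) j k) : act g j = k :=
  sends_unique (act_spec g j) h

theorem act_mul (g h : Na) (j : Fin 11) : act (g * h) j = act g (act h j) :=
  act_eq (sends_mul g.2 (act_spec h j) (act_spec g _))

theorem act_one (j : Fin 11) : act 1 j = j :=
  act_eq (Or.inl (by simp))

/-- the action on the eleven subgroups -/
noncomputable def φ : Na →* Equiv.Perm (Fin 11) where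
  toFun g :=
    { toFun := act g
      invFun := act g⁻¹
      left_inv := fun j => by rw [← act_mul, inv_mul_cancel, act_one]
      right_inv := fun j => by rw [← act_mul, mul_inv_cancel, act_one] }
  map_one' := Equiv.ext act_one
  map_mul' g h := Equiv.ext (act_mul g h)

theorem φ_apply (g : Na) (j : Fin 11) : φ g j = act g j := rfl

/-- an orbit among the fixed points -/
def oSet (m : ℕ) : Set (Fin dG.n) := {i | Nat.testBit m i = true}

theorem oSet_o1 : oSet o1M = obj ⟨j0, by decide⟩ := by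
  have h := orbOK_eq
  simp only [orbOK, Bool.and_eq_true, Nat.beq_eq] at h
  simp only [oSet, obj, h.1.1.1.1.1.1.1.1.1]

theorem orbit_spec {m : ℕ} {L : List ℕ} (hLM : (m = o1M ∧ L = o1L) ∨ (m = o2M ∧ L = o2L)) :
    (∀ a ∈ A0, ρ a • oSet m = oSet m) ∧
      ∀ i ∈ oSet m, ∀ i' ∈ oSet m, ∃ a ∈ A0, ρ a i = i' := by
  have h := orbOK_eq
  simp only [orbOK, Bool.and_eq_true, List.all_eq_true, Nat.beq_eq, Nat.blt_eq,
    Bool.or_eq_true, Bool.not_eq_true', List.contains_iff_mem] at h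
  obtain ⟨⟨⟨⟨⟨⟨-, h1⟩, h2⟩, h3⟩, h4⟩, f1⟩, f2⟩ := h
  have hm : Nat.land m fixM = m := by rcases hLM with ⟨rfl, -⟩ | ⟨rfl, -⟩ <;> assumption
  have hlist : ∀ i : Fin dG.n, i ∈ oSet m → (i : ℕ) ∈ L := by
    intro i hi
    have ht : m.testBit i = true := hi
    have hl : (i : ℕ) ∈ Data.fixL := by
      have hf := objFixOK_eq
      simp only [objFixOK, Bool.and_eq_true] at hf
      have hb := hm.symm ▸ ht
      rw [show Nat.land m fixM = m &&& fixM from rfl, Nat.testBit_and, Bool.and_eq_true] at hb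
      simpa [hb.2] using allBelow_spec hf.1.1.2 i i.2
    rcases hLM with ⟨rfl, rfl⟩ | ⟨rfl, rfl⟩
    · exact (h3 _ hl).1.resolve_left (by rw [ht]; simp)
    · exact (h3 _ hl).2.resolve_left (by rw [ht]; simp)
  have hgen : ∀ k ∈ aK, ρ (E k) • oSet m ⊆ oSet m := by
    rintro k hk _ ⟨i, hi, rfl⟩
    show Nat.testBit m (ρ (E k) i : Fin dG.n) = true
    have hk' : k < 28 := by obtain ⟨p, rfl⟩ := aK_pos hk; exact (aK_getD p.2).2
    rw [E_spec hk']
    rcases hLM with ⟨rfl, rfl⟩ | ⟨rfl, rfl⟩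
    · exact (h4 k hk).1 _ (hlist i hi)
    · exact (h4 k hk).2 _ (hlist i hi)
  have hstab : A0.map ρ ≤ MulAction.stabilizer (Equiv.Perm (Fin dG.n)) (oSet m) := by
    rw [A0, MonoidHom.map_closure, Subgroup.closure_le]
    rintro _ ⟨_, ⟨k, hk, rfl⟩, rfl⟩
    exact (MulAction.mem_stabilizer_set_iff_smul_set_subset (Set.toFinite _)).2 (hgen k hk)
  refine ⟨fun a ha => hstab ⟨a, ha, rfl⟩, fun i hi i' hi' => ?_⟩
  obtain ⟨e, -, r, -, er, rfl⟩ := exists_rep i
  obtain ⟨e', -, r', -, er', rfl⟩ := exists_rep i'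
  have hblk : ∀ j : Fin dG.n, j ∈ oSet m →
      coverTab.half j / 243 = coverTab.half (L.getD 0 0) / 243 := fun j hj => by
    rcases hLM with ⟨rfl, rfl⟩ | ⟨rfl, rfl⟩
    · exact (h1 _ (hlist j hj)).2
    · exact (h2 _ (hlist j hj)).2
  obtain rfl : r = r' := Fin.ext (by rw [er, er', hblk _ hi, hblk _ hi'])
  refine ⟨El e' * (El e)⁻¹, A0.mul_mem (El_mem _) (A0.inv_mem (El_mem _)), ?_⟩
  rw [← Equiv.Perm.mul_apply, ← map_mul, inv_mul_cancel_right]

theorem stab_orbit {g : S} (hA : g ∈ Na) (hC : g ∈ Cy) : ρ g • oSet o1M = oSet o1M := by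
  obtain ⟨h1, h1t⟩ := orbit_spec (Or.inl ⟨rfl, rfl⟩)
  obtain ⟨h2, h2t⟩ := orbit_spec (m := o2M) (Or.inr ⟨rfl, rfl⟩)
  have hO := orbOK_eq
  simp only [orbOK, Bool.and_eq_true, List.all_eq_true, Nat.beq_eq, Nat.blt_eq, Bool.or_eq_true,
    Bool.not_eq_true', List.contains_iff_mem] at hO
  obtain ⟨⟨⟨⟨⟨⟨⟨⟨⟨e1, hne⟩, hsm⟩, hall⟩, l1⟩, -⟩, -⟩, -⟩, -⟩, -⟩ := hO
  have hy : ∀ i ∈ oSet o1M, ρ y i = i := fun i hi => obj_fixed (oSet_o1 ▸ hi)
  have hinto : ∀ i ∈ oSet o1M, ρ g i ∈ oSet o1M ∨ ρ g i ∈ oSet o2M := by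
    intro i hi
    have hfix : ρ y (ρ g i) = ρ g i := by
      rw [← Equiv.Perm.mul_apply, ← map_mul,
        Subgroup.mem_centralizer_iff.1 hC y (Subgroup.mem_zpowers y), map_mul,
        Equiv.Perm.mul_apply, hy i hi]
    have hl : ((ρ g i : Fin dG.n) : ℕ) ∈ Data.fixL := by
      have h := allBelow_spec fixOK_eq _ (ρ g i).2
      have h' : Nat.beq (dG.img ky (ρ g i : Fin dG.n)) (ρ g i : Fin dG.n) = true :=
        by rw [Nat.beq_eq, ← E_spec (by decide)]; exact congrArg Fin.val hfix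
      simpa [h'] using h
    exact hall _ hl
  have hclass : ∀ i ∈ oSet o1M, ∀ m, (∀ a ∈ A0, ρ a • oSet m = oSet m) → ρ g i ∈ oSet m →
      ∀ i' ∈ oSet o1M, ρ g i' ∈ oSet m := by
    intro i hi m hm hgi i' hi'
    obtain ⟨a, ha, rfl⟩ := h1t i hi i' hi'
    have hc : g * a * g⁻¹ ∈ A0 := (Subgroup.mem_normalizer_iff.1 hA a).1 ha
    rw [← hm _ hc]
    refine ⟨ρ g i, hgi, ?_⟩
    show ρ (g * a * g⁻¹) (ρ g i) = ρ g (ρ a i)
    rw [← Equiv.Perm.mul_apply, ← Equiv.Perm.mul_apply, ← map_mul, ← map_mul, inv_mul_cancel_right]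
  by_cases hex : ∃ i ∈ oSet o1M, ρ g i ∈ oSet o1M
  · obtain ⟨i, hi, hgi⟩ := hex
    refine (MulAction.mem_stabilizer_set_iff_smul_set_subset (Set.toFinite _)).2 ?_
    rintro _ ⟨i', hi', rfl⟩
    exact hclass i hi _ h1 hgi i' hi'
  · exfalso
    push Not at hex
    have hg2 : ∀ i ∈ oSet o1M, ρ g i ∈ oSet o2M := fun i hi => (hinto i hi).resolve_left (hex i hi)
    let x0 : Fin dG.n := ⟨o1L.getD 0 0, (by decide +kernel : o1L.getD 0 0 < dG.n)⟩
    have hx0 : x0 ∈ oSet o1M :=
      (l1 _ (by decide +kernel : o1L.getD 0 0 ∈ o1L)).1.2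
    have himg : ρ g • oSet o1M = oSet o2M := by
      apply Set.Subset.antisymm
      · rintro _ ⟨i, hi, rfl⟩
        exact hg2 i hi
      · intro j hj
        obtain ⟨b, hb, hbe⟩ := h2t _ (hg2 x0 hx0) j hj
        have ha : g⁻¹ * b * g ∈ A0 := (Subgroup.mem_normalizer_iff''.1 hA b).1 hb
        refine ⟨ρ (g⁻¹ * b * g) x0, ?_, ?_⟩
        · rw [← h1 _ ha]; exact ⟨x0, hx0, rfl⟩
        · show ρ g (ρ (g⁻¹ * b * g) x0) = j
          rw [← hbe, ← Equiv.Perm.mul_apply, ← Equiv.Perm.mul_apply, ← map_mul, ← map_mul,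
            ← mul_assoc, ← mul_assoc, mul_inv_cancel, one_mul]
    have hg0 : g ∈ C0 := by rw [C0_eq]; exact hC
    have ho := θ_spec ⟨g, hg0⟩ ⟨j0, by decide⟩
    rw [← oSet_o1, himg] at ho
    set j := θ ⟨g, hg0⟩ ⟨j0, by decide⟩
    have hb : objM.getD j 0 < 2 ^ 1782 := by
      have hs := objM_small
      simp only [List.all_eq_true, Nat.blt_eq] at hs
      exact hs _ (objM_mem j)
    have e : o2M = objM.getD j 0 := by
      refine Nat.eq_of_testBit_eq fun i => ?_
      by_cases hi : i < 1782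
      · exact Bool.eq_iff_iff.2 (Set.ext_iff.1 ho ⟨i, hi⟩)
      · rw [Nat.testBit_eq_false_of_lt (lt_of_lt_of_le hsm (Nat.pow_le_pow_right (by norm_num)
          (by omega))), Nat.testBit_eq_false_of_lt (lt_of_lt_of_le hb
          (Nat.pow_le_pow_right (by norm_num) (by omega)))]
    have hmem := objM_mem j
    rw [← e] at hmem
    simp [List.contains_iff_mem, hmem] at hne

theorem card_stab_j0 : Nat.card ((MulAction.stabilizer (Equiv.Perm (Fin 112))
    (⟨j0, by decide⟩ : Fin 112)).comap θ) ≤ 87480 := by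
  let j : Fin 112 := ⟨j0, by decide⟩
  letI : MulAction C0 (Fin 112) := MulAction.compHom (Fin 112) θ
  have hst : MulAction.stabilizer C0 j = (MulAction.stabilizer (Equiv.Perm (Fin 112)) j).comap θ := rfl
  have hT := treeOK_eq
  simp only [treeOK, Bool.and_eq_true, Nat.beq_eq, decide_eq_true_eq] at hT
  obtain ⟨⟨⟨tl, tnd⟩, t0⟩, tstep⟩ := hT
  have key : ∀ p < 112, ∀ x : Fin 112, (x : ℕ) = (objTree.getD p (0, 0, 0)).1 →
      x ∈ MulAction.orbit C0 j := by
    intro p
    induction p using Nat.strong_induction_on with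
    | _ p ih =>
      intro hp x hx
      have h := allBelow_spec tstep p hp
      simp only [Bool.and_eq_true, Bool.or_eq_true, Nat.blt_eq, Nat.beq_eq] at h
      rcases h.2 with rfl | ⟨⟨hpar, hk⟩, himg⟩
      · rw [t0] at hx
        obtain rfl : x = j := Fin.ext hx
        exact MulAction.mem_orbit_self j
      · have hlt := allBelow_spec tstep _ (hpar.trans hp)
        simp only [Bool.and_eq_true, Nat.blt_eq] at hlt
        let x' : Fin 112 := ⟨_, hlt.1⟩
        obtain ⟨g, hg⟩ := ih _ hpar (hpar.trans hp) x' rfl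
        refine ⟨⟨_, Subgroup.subset_closure ⟨_, (cyK_getD hk).1, rfl⟩⟩ * g, ?_⟩
        show θ (_ * g) j = x
        rw [map_mul, Equiv.Perm.mul_apply, show θ g j = x' from hg, θ_gen hk]
        rw [qP, dif_pos hk]
        refine Fin.ext ((qf_spec hk x').1.trans ?_)
        rw [hx]
        exact himg
  have horb : MulAction.orbit C0 j = Set.univ := by
    refine Set.eq_univ_of_forall fun x => ?_
    let f : Fin 112 → Fin 112 := fun p => Fin.ofNat 112 (objTree.getD p (0, 0, 0)).1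
    have hf : Function.Injective f := by
      intro p q hpq
      have hv : ∀ p : Fin 112, ((f p : Fin 112) : ℕ) = (objTree.getD p (0, 0, 0)).1 := fun p => by
        have h := allBelow_spec tstep p p.2
        simp only [Bool.and_eq_true, Nat.blt_eq] at h
        exact Nat.mod_eq_of_lt h.1
      have h := congrArg Fin.val hpq
      rw [hv, hv, List.getD_eq_getElem _ _ (tl.symm ▸ p.2),
        List.getD_eq_getElem _ _ (tl.symm ▸ q.2)] at h
      exact Fin.ext ((tnd.getElem_inj_iff (i := p) (hi := by simp [tl]) (j := q)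
        (hj := by simp [tl])).1 (by simpa using h))
    obtain ⟨p, rfl⟩ := Finite.injective_iff_surjective.1 hf x
    refine key p p.2 _ (Nat.mod_eq_of_lt ?_)
    have h := allBelow_spec tstep p p.2
    simp only [Bool.and_eq_true, Nat.blt_eq] at h
    exact h.1
  have h := (MulAction.stabilizer C0 j).card_mul_index
  have hc0 : Nat.card C0 = 9797760 := by rw [C0_eq]; exact counts.2.1
  rw [MulAction.index_stabilizer, horb, Set.ncard_univ, Nat.card_fin, hc0] at h
  show Nat.card ((MulAction.stabilizer (Equiv.Perm (Fin 112)) j).comap θ) ≤ _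
  rw [← hst]
  omega

theorem card_point : Nat.card ((MulAction.stabilizer (Equiv.Perm (Fin 11)) (0 : Fin 11)).comap φ) ≤
    2 * 87480 := by
  set St := (MulAction.stabilizer (Equiv.Perm (Fin 11)) (0 : Fin 11)).comap φ with hSt
  have hN : ∀ g ∈ St, (g : S) ∈ Ny := by
    intro g hg
    have h : Sends (g : S) 0 0 := by
      have := act_spec g 0
      rwa [show act g 0 = 0 from hg] at this
    have h' : (g : S) * y * (g : S)⁻¹ ∈ Y := by
      obtain ⟨-, e2, -⟩ := yc_spec 0
      rw [show (yc 0).1 = 1 from rfl, El_one] at e2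
      rw [Sends, show (yc 0).1 = 1 from rfl, El_one] at h
      rcases h with h | h <;> rw [h]
      · exact Subgroup.mem_zpowers y
      · rw [e2]; exact Y.mul_mem (Subgroup.mem_zpowers y) (Subgroup.mem_zpowers y)
    have hmap : Y.map (MulAut.conj (g : S)).toMonoidHom = Y := by
      rw [MonoidHom.map_zpowers]
      refine Subgroup.eq_of_le_of_card_ge (Subgroup.zpowers_le.2 h') ?_
      rw [Nat.card_zpowers, Nat.card_zpowers, MulEquiv.coe_toMonoidHom, MulEquiv.orderOf_eq]
    rw [Subgroup.mem_normalizer_iff]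
    intro x
    constructor
    · intro hx
      exact hmap ▸ ⟨x, hx, rfl⟩
    · intro hx
      rw [← hmap] at hx
      obtain ⟨z, hz, hze⟩ := hx
      have : z = x := by simpa using hze
      exact this ▸ hz
  let T : Subgroup St := Cy.comap (Na.subtype.comp St.subtype)
  have hidx : T.index ≤ 2 := by
    let i : St →* Ny :=
      { toFun := fun g => ⟨(g : S), hN g g.2⟩
        map_one' := rfl
        map_mul' := fun _ _ => rfl }
    have e : T = (Cy.subgroupOf Ny).comap i := rfl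
    rw [e, Subgroup.index_comap]
    refine (Subgroup.relIndex_le_of_le_right le_top (by
      rw [Subgroup.relIndex_top_right]; exact Subgroup.index_ne_zero_of_finite)).trans ?_
    rw [Subgroup.relIndex_top_right, ← Subgroup.relIndex, relIndex_Cy]
  have hT : Nat.card T ≤ 87480 := by
    refine le_trans (Nat.card_le_card_of_injective (fun g : T =>
      (⟨⟨((g : St) : S), by rw [C0_eq]; exact g.2⟩, ?_⟩ :
        (MulAction.stabilizer (Equiv.Perm (Fin 112)) (⟨j0, by decide⟩ : Fin 112)).comap θ)) ?_)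
      card_stab_j0
    · show θ _ ⟨j0, _⟩ = ⟨j0, _⟩
      refine obj_injective ?_
      rw [← θ_spec, ← oSet_o1]
      exact stab_orbit (g : St).1.2 g.2
    · intro a b hab
      exact Subtype.ext (Subtype.ext (Subtype.ext (congrArg (fun z => ((z.1 : C0) : S)) hab)))
  calc Nat.card St = Nat.card T * T.index := (Subgroup.card_mul_index T).symm
    _ ≤ 87480 * 2 := Nat.mul_le_mul hT hidx

theorem u_mem (k : Fin 2) : E (uK.getD k 0) ∈ Na := by
  have h := allBelow_spec uOK_eq k k.2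
  simp only [Bool.and_eq_true] at h
  obtain ⟨⟨⟨h1, h2⟩, h3⟩, -⟩ := h
  replace h1 := okEq_spec h1
  replace h2 := okEq_spec h2
  simp only [P_cons, P_nil, one_mul] at h1 h2
  have hinv : E (uInv.getD k 0) = (E (uK.getD k 0))⁻¹ := eq_inv_of_mul_eq_one_left h1
  rw [Subgroup.mem_normalizer_iff]
  intro x
  have hle : ∀ g : S, (∀ k ∈ aK, g * E k * g⁻¹ ∈ A0) → ∀ x ∈ A0, g * x * g⁻¹ ∈ A0 := by
    intro g hg x hx
    have : A0 ≤ A0.comap (MulAut.conj g).toMonoidHom := by
      conv_lhs => rw [A0]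
      rw [Subgroup.closure_le]
      rintro _ ⟨k, hk, rfl⟩
      exact hg k hk
    exact this hx
  have key : ∀ i < 5, E (uK.getD k 0) * E (aK.getD i 0) * (E (uK.getD k 0))⁻¹ ∈ A0 ∧
      (E (uK.getD k 0))⁻¹ * E (aK.getD i 0) * ((E (uK.getD k 0))⁻¹)⁻¹ ∈ A0 := by
    intro i hi
    have h := allBelow_spec h3 i hi
    simp only [Bool.and_eq_true] at h
    obtain ⟨a, b⟩ := h
    replace a := okEq_spec a
    replace b := okEq_spec b
    simp only [P_cons, P_nil, one_mul, hinv] at a b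
    refine ⟨?_, ?_⟩
    · rw [a]; exact El_mem _
    · rw [inv_inv, b]; exact El_mem _
  have k1 : ∀ k' ∈ aK, E (uK.getD k 0) * E k' * (E (uK.getD k 0))⁻¹ ∈ A0 := fun k' hk' => by
    obtain ⟨i, rfl⟩ := aK_pos hk'
    exact (key i i.2).1
  have k2 : ∀ k' ∈ aK, (E (uK.getD k 0))⁻¹ * E k' * ((E (uK.getD k 0))⁻¹)⁻¹ ∈ A0 := fun k' hk' => by
    obtain ⟨i, rfl⟩ := aK_pos hk'
    exact (key i i.2).2
  refine ⟨fun hx => hle _ k1 x hx, fun hx => ?_⟩
  have := hle _ k2 _ hx
  simpa [mul_assoc] using this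

theorem φ_u (k : Fin 2) (j : Fin 11) :
    ((φ ⟨_, u_mem k⟩ j : Fin 11) : ℕ) = d11.img k j := by
  have h := allBelow_spec uOK_eq k k.2
  simp only [Bool.and_eq_true] at h
  obtain ⟨⟨⟨h1, -⟩, -⟩, h4⟩ := h
  replace h1 := okEq_spec h1
  simp only [P_cons, P_nil, one_mul] at h1
  have hinv : E (uInv.getD k 0) = (E (uK.getD k 0))⁻¹ := eq_inv_of_mul_eq_one_left h1
  have h := allBelow_spec h4 j j.2
  simp only [Bool.and_eq_true, Nat.blt_eq, Bool.or_eq_true, Nat.beq_eq] at h
  obtain ⟨⟨hlt, hc⟩, hw⟩ := h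
  replace hw := okEq_spec hw
  rw [List.cons_append, P_cons, P_append, P_single, hinv] at hw
  rw [φ_apply, act_eq (k := ⟨_, hlt⟩)]
  show E (uK.getD k 0) * El (yc j).1 * (E (uK.getD k 0))⁻¹ = El _ ∨ _
  rw [show E (uK.getD k 0) * El (yc j).1 * (E (uK.getD k 0))⁻¹ = _ from hw]
  rcases hc with hc | hc
  · exact Or.inl (congrArg El hc)
  · exact Or.inr (congrArg El hc)

theorem d11_n : d11.n = 11 := rfl

theorem le_card_closure : 7920 ≤ Nat.card (Subgroup.closure (Set.range fun k : Fin 2 => φ ⟨_, u_mem k⟩)) := by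
  rw [← lev11_prod]
  refine PermData.le_card_of_hom (D := d11) _
    (MonoidHom.id (Equiv.Perm (Fin 11)) : Equiv.Perm (Fin 11) →* Equiv.Perm (Fin d11.n))
    (fun k hk => ?_) d11_words lev11s lev11_ok
  have hk2 : k < 2 := hk
  exact ⟨_, Subgroup.subset_closure ⟨⟨k, hk2⟩, rfl⟩, fun j => φ_u ⟨k, hk2⟩ j⟩

theorem A0_le : A0 ≤ Na := Subgroup.le_normalizer

theorem φ_A0 : A0.subgroupOf Na ≤ φ.ker := by
  intro a ha
  rw [MonoidHom.mem_ker]
  refine Equiv.ext fun j => ?_
  show act a j = j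
  refine act_eq (Or.inl ?_)
  rw [A0_comm (Subgroup.mem_subgroupOf.1 ha) (El_mem _), mul_inv_cancel_right]

theorem counts_local : φ.ker = A0.subgroupOf Na ∧ Nat.card φ.range = 7920 ∧
    Subgroup.closure (Set.range fun k : Fin 2 => φ ⟨_, u_mem k⟩) = φ.range ∧
    Nat.card Na = 1924560 := by
  have hcl : Subgroup.closure (Set.range fun k : Fin 2 => φ ⟨_, u_mem k⟩) ≤ φ.range := by
    rw [Subgroup.closure_le]
    rintro _ ⟨k, rfl⟩
    exact ⟨_, rfl⟩
  have hr : 7920 ≤ Nat.card φ.range :=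
    le_card_closure.trans (Nat.le_of_dvd Nat.card_pos (Subgroup.card_dvd_of_le hcl))
  have hA : Nat.card (A0.subgroupOf Na) = 243 := by
    rw [Nat.card_congr (Subgroup.subgroupOfEquivOfLe A0_le).toEquiv, card_A0]
  have hk : 243 ≤ Nat.card φ.ker :=
    hA ▸ Nat.le_of_dvd Nat.card_pos (Subgroup.card_dvd_of_le φ_A0)
  have hmul : Nat.card φ.ker * Nat.card φ.range = Nat.card Na := by
    rw [← Subgroup.index_ker, Subgroup.card_mul_index]
  have hN : Nat.card Na ≤ 11 * (2 * 87480) := by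
    letI : MulAction Na (Fin 11) := MulAction.compHom (Fin 11) φ
    have h := (MulAction.stabilizer Na (0 : Fin 11)).card_mul_index
    rw [MulAction.index_stabilizer] at h
    rw [← h, mul_comm 11]
    refine Nat.mul_le_mul card_point ?_
    refine (Set.ncard_le_ncard (Set.subset_univ _)).trans ?_
    rw [Set.ncard_univ, Nat.card_fin]
  have ek : Nat.card φ.ker = 243 := by
    refine le_antisymm ?_ hk
    by_contra hlt
    have := Nat.mul_le_mul (show 244 ≤ Nat.card φ.ker by omega) hr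
    omega
  rw [ek] at hmul
  refine ⟨(Subgroup.eq_of_le_of_card_ge φ_A0 (by omega)).symm, by omega,
    Subgroup.eq_of_le_of_card_ge hcl ((show Nat.card φ.range ≤ 7920 by omega).trans le_card_closure),
    by omega⟩

theorem centralizer_A0 : Subgroup.centralizer (A0 : Set S) = A0 := by
  refine le_antisymm (fun g hg => ?_) fun a ha => Subgroup.mem_centralizer_iff.2
    fun b hb => A0_comm hb ha
  have hgN : g ∈ Na := Subgroup.centralizer_le_normalizer _ hg
  have hk : (⟨g, hgN⟩ : Na) ∈ φ.ker := by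
    rw [MonoidHom.mem_ker]
    refine Equiv.ext fun j => ?_
    show act _ j = j
    refine act_eq (Or.inl ?_)
    show g * El _ * g⁻¹ = _
    rw [← Subgroup.mem_centralizer_iff.1 hg _ (El_mem _), mul_inv_cancel_right]
  rw [counts_local.1, Subgroup.mem_subgroupOf] at hk
  exact hk

theorem simple_range : IsSimpleGroup φ.range := by
  obtain ⟨-, hcard, hcl, -⟩ := counts_local
  haveI : Fact (Nat.Prime 11) := ⟨by norm_num⟩
  haveI : Nontrivial φ.range := Finite.one_lt_card_iff_nontrivial.1 (by rw [hcard]; norm_num)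
  have hu11 : ∀ k : Fin 2, (φ ⟨_, u_mem k⟩) ^ 11 = 1 := by
    intro k
    refine Equiv.ext fun j => Fin.ext ?_
    have key : ∀ (m : ℕ) (j : Fin 11), ((((φ ⟨_, u_mem k⟩) ^ m) j : Fin 11) : ℕ) =
        d11.app (List.replicate m (k : ℕ)) j := by
      intro m
      induction m with
      | zero => intro j; rfl
      | succ m ih =>
        intro j
        rw [pow_succ, Equiv.Perm.mul_apply, ih, φ_u]
        rfl
    rw [key]
    have h := allBelow_spec d11_order k k.2
    simp only [Bool.and_eq_true] at h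
    exact Nat.eq_of_beq_eq_true (allBelow_spec h.2 j j.2)
  refine { eq_bot_or_eq_top_of_normal := fun M hM => ?_ }
  by_cases hb : M = ⊥
  · exact Or.inl hb
  right
  -- a nontrivial normal subgroup is transitive
  have htrans : ∀ i : Fin 11, ∃ g : φ.range, (g : Equiv.Perm (Fin 11)) 0 = i := by
    intro i
    have key : ∀ i : Fin 11, ∃ m : Fin 11,
        d11.app (List.replicate (m : ℕ) 0) 0 = (i : ℕ) := by decide +kernel
    obtain ⟨m, hm⟩ := key i
    refine ⟨⟨(φ ⟨_, u_mem 0⟩) ^ (m : ℕ), φ.range.pow_mem ⟨_, rfl⟩ _⟩, Fin.ext ?_⟩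
    have key2 : ∀ (m : ℕ) (j : Fin 11), ((((φ ⟨_, u_mem 0⟩) ^ m) j : Fin 11) : ℕ) =
        d11.app (List.replicate m 0) j := by
      intro m
      induction m with
      | zero => intro j; rfl
      | succ m ih =>
        intro j
        rw [pow_succ, Equiv.Perm.mul_apply, ih, φ_u]
        rfl
    rw [← hm]
    exact key2 m 0
  letI : MulAction φ.range (Fin 11) := MulAction.compHom (Fin 11) φ.range.subtype
  haveI : MulAction.IsPretransitive φ.range (Fin 11) := ⟨fun a b => by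
    obtain ⟨g, rfl⟩ := htrans a
    obtain ⟨h, rfl⟩ := htrans b
    exact ⟨h * g⁻¹, by
      show ((h * g⁻¹ : φ.range) : Equiv.Perm (Fin 11)) ((g : Equiv.Perm (Fin 11)) 0) = _
      simp⟩⟩
  haveI : MulAction.IsPreprimitive φ.range (Fin 11) :=
    MulAction.IsPreprimitive.of_prime_card (by rw [Nat.card_fin]; norm_num)
  have hMt : MulAction.IsPretransitive M (Fin 11) :=
    MulAction.IsQuasiPreprimitive.isPretransitive_of_normal (by
      intro hfix
      refine hb ((Subgroup.eq_bot_iff_forall M).2 fun x hx => Subtype.ext (Equiv.ext fun i => ?_))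
      have := hfix.ge (Set.mem_univ i)
      exact MulAction.mem_fixedPoints.1 this ⟨x, hx⟩)
  have h11 : 11 ∣ Nat.card M := by
    haveI := hMt
    have := (MulAction.stabilizer M (0 : Fin 11)).card_mul_index
    rw [MulAction.index_stabilizer_of_transitive, Nat.card_fin] at this
    exact Dvd.intro_left _ this
  have hmem : ∀ k : Fin 2, (⟨φ ⟨_, u_mem k⟩, ⟨_, rfl⟩⟩ : φ.range) ∈ M := by
    intro k
    have hx : (⟨φ ⟨_, u_mem k⟩, ⟨_, rfl⟩⟩ : φ.range) ^ 11 = 1 := Subtype.ext (hu11 k)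
    have hidx : ¬ 11 ∣ M.index := by
      intro hd
      have := mul_dvd_mul h11 hd
      rw [M.card_mul_index, hcard] at this
      norm_num at this
    have h1 : (QuotientGroup.mk' M (⟨φ ⟨_, u_mem k⟩, ⟨_, rfl⟩⟩ : φ.range)) ^ 11 = 1 := by
      rw [← map_pow, hx, map_one]
    have h2 := orderOf_dvd_natCard (QuotientGroup.mk' M (⟨φ ⟨_, u_mem k⟩, ⟨_, rfl⟩⟩ : φ.range))
    rw [← Subgroup.index_eq_card] at h2
    rcases (Fact.out : Nat.Prime 11).eq_one_or_self_of_dvd _ (orderOf_dvd_of_pow_eq_one h1) with h | h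
    · exact (QuotientGroup.eq_one_iff _).1 (orderOf_eq_one_iff.1 h)
    · rw [h] at h2; exact absurd h2 hidx
  have hle : φ.range ≤ M.map φ.range.subtype := by
    conv_lhs => rw [← hcl]
    rw [Subgroup.closure_le]
    rintro _ ⟨k, rfl⟩
    exact ⟨_, hmem k, rfl⟩
  rw [eq_top_iff]
  intro x _
  obtain ⟨z, hz, hze⟩ := hle x.2
  obtain rfl : z = x := Subtype.ext hze
  exact hz

theorem isoM11_quotient : ∃ _ : (A0.subgroupOf Na).Normal,
    Cfsg.Spor.IsoM11 (Na ⧸ A0.subgroupOf Na) := by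
  have hn : (A0.subgroupOf Na).Normal := counts_local.1 ▸ inferInstance
  refine ⟨hn, ?_⟩
  haveI := simple_range
  obtain ⟨e⟩ := CfsgLib.Small.O7920.iso_M11 (G := φ.range) counts_local.2.1
  exact ⟨((QuotientGroup.quotientMulEquivOfEq counts_local.1.symm).trans
    (QuotientGroup.quotientKerEquivRange φ)).trans e⟩

end CfsgLib.Spor.SuzThree
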