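import Cfsg.Agent.Lib.Spor.SuzThree.Local
import Cfsg.Agent.Lib.Spor.SuzThree.Ca
import Cfsg.Agent.Lib.Small.SuzTwo.Build
import Cfsg.Agent.Lib.Small.SuzTwo.ThreeClass
import Cfsg.Agent.Lib.Small.SuzOrder.Local
import Cfsg.Agent.Lib.Small.SuzOrder.Four
import Cfsg.Agent.Lib.Base.Transport
import Cfsg.Agent.Lib.Base.Fitting
import Cfsg.Prelude.Def_Local

/-!
Transport of the structure of the centraliser and normaliser of an element of order three from
the presented Suzuki group to a group of Suzuki type.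
-/

set_option autoImplicit false
set_option maxRecDepth 100000

namespace CfsgLib.Spor.SuzThree

open CfsgLib.Small.SuzTwo (Cz Img Model ixC)
open scoped commutatorElement

universe u

variable {G : Type u} [Group G] [Finite G]

theorem card_Cz {z : G} {Q : Subgroup G} {f : G → Fin 64}
    {r : Cz z →* Equiv.Perm (Fin 64)} (M : Model z Q f r) : Nat.card (Cz z) = 3317760 := by
  have hk : r.ker = Q.subgroupOf (Cz z) := by
    ext c
    rw [MonoidHom.mem_ker, Subgroup.mem_subgroupOf]
    exact M.ρ_ker c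
  rw [← r.ker.card_mul_index, Subgroup.index_ker, M.ρ_card, hk,
    CfsgLib.Base.card_subgroupOf M.le, M.card]

theorem two_class {z : G} {Q : Subgroup G} {f : G → Fin 64} {r : Cz z →* Equiv.Perm (Fin 64)}
    (M : Model z Q f r) {t : G} (ht : Img r t (CfsgLib.Small.SuzTwo.P ixC)) (ht2 : t * t = 1)
    {x : G} (hx : orderOf x = 2) : IsConj z x ∨ IsConj t x := by
  obtain ⟨a, b, -, -, -, hall⟩ := M.two_classes
  have ht1 : t ≠ 1 := fun e => M.not_mem_of_img ht CfsgLib.Small.SuzTwo.invC.P_ne (e ▸ one_mem Q)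
  have hzt : ¬ IsConj z t := fun hc => by
    obtain ⟨k, hk⟩ := isConj_iff.1 hc
    exact M.not_conj_z ht ht2 hk
  have hto : orderOf t = 2 := orderOf_eq_prime (by rw [sq, ht2]) ht1
  rcases hall z M.ord with hz | hz <;> rcases hall t hto with htt | htt <;>
    rcases hall x hx with hxx | hxx
  all_goals
    first
      | exact Or.inl (hz.trans hxx.symm)
      | exact Or.inr (htt.trans hxx.symm)
      | exact absurd (hz.trans htt.symm) hzt

theorem zpowers_of_card_three {H : Type*} [Group H] [Finite H] (Y : Subgroup H)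
    (hY : Nat.card Y = 3) : ∃ g : H, orderOf g = 3 ∧ Y = Subgroup.zpowers g := by
  haveI : Fact (Nat.Prime 3) := ⟨by norm_num⟩
  obtain ⟨g, hg⟩ := exists_prime_orderOf_dvd_card' (G := Y) 3 (by rw [hY])
  refine ⟨g, by rw [Subgroup.orderOf_coe, hg], (Subgroup.eq_of_le_of_card_ge
    (Subgroup.zpowers_le.2 g.2) ?_).symm⟩
  rw [hY, Nat.card_zpowers, Subgroup.orderOf_coe, hg]

theorem exists_transport (z : G) (hz : orderOf z = 2)
    (Q : Subgroup (Subgroup.centralizer ({z} : Set G))) [Q.Normal]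
    (hF : Cfsg.generalizedFittingSubgroup (Subgroup.centralizer ({z} : Set G)) = Q)
    (hQ : Cfsg.IsExtraspecial 2 Q) (hcard : Nat.card Q = 2 ^ 7)
    (e : (Subgroup.centralizer ({z} : Set G)) ⧸ Q ≃*
      Cfsg.Omega (ZMod 2) (Cfsg.quadFormMinus 2 (ZMod 2) 1 1))
    (hnwc : ∃ g : G, (∃ hq : g * z * g⁻¹ ∈ Subgroup.centralizer ({z} : Set G),
      (⟨g * z * g⁻¹, hq⟩ : Subgroup.centralizer ({z} : Set G)) ∈ Q) ∧ g * z * g⁻¹ ≠ z)
    (W : Subgroup (Subgroup.centralizer ({z} : Set G))) (hW : Nat.card W = 3)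
    (hQW : Nat.card ↥⁅Q, W⁆ = 8) (hna : ¬ IsMulCommutative ↥⁅Q, W⁆) (φ : G ≃* S) :
    ∃ ψ : G ≃* S,
      (W.map (Subgroup.subtype (Subgroup.centralizer ({z} : Set G)))).map ψ.toMonoidHom = Y := by
  haveI : Fact (Nat.Prime 2) := ⟨Nat.prime_two⟩
  obtain ⟨f, r, M⟩ := CfsgLib.Small.SuzTwo.exists_model hF hQ hcard e hz hnwc
  -- the given subgroup
  obtain ⟨w, hwo, hWw⟩ := zpowers_of_card_three W hW
  have hwG : orderOf (w : G) = 3 := by rw [Subgroup.orderOf_coe, hwo]
  have hWmap : W.map (Subgroup.subtype _) = Subgroup.zpowers (w : G) := by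
    rw [hWw, MonoidHom.map_zpowers]; rfl
  have hcm : ⁅Q.map (Subgroup.subtype _), Subgroup.zpowers (w : G)⁆ =
      (⁅Q, W⁆).map (Subgroup.subtype _) := by
    rw [Subgroup.map_commutator, hWmap]
  have heq : ↥⁅Q, W⁆ ≃* ↥((⁅Q, W⁆).map (Subgroup.subtype (Subgroup.centralizer ({z} : Set G)))) :=
    Subgroup.equivMapOfInjective _ _ Subtype.val_injective
  have h32 : 32 ≤ Nat.card ↥(Q.map (Subgroup.subtype _) ⊓
      Subgroup.centralizer ({(w : G)} : Set G)) := by
    refine M.cent_of_comm w.2 hwG ?_ ?_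
    · rw [hcm, ← Nat.card_congr heq.toEquiv, hQW]
    · rw [hcm]
      intro hc
      exact hna ⟨⟨fun a b => heq.injective (by rw [map_mul, map_mul]; exact mul_comm' _ _)⟩⟩
  -- an identification carrying `z` to the chosen involution
  have hza2 : orderOf za = 2 := orderOf_eq_prime (by rw [sq, za_sq]) za_ne
  have hx : orderOf (φ.symm za) = 2 := by rw [MulEquiv.orderOf_eq, hza2]
  obtain ⟨t, ht, ht2, ⟨D⟩⟩ := CfsgLib.Small.SuzOrder.exists_local M
  obtain ⟨FD⟩ := CfsgLib.Small.SuzOrder.fourData D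
  have hCa : 3317760 ≤ Nat.card (Subgroup.centralizer ({za} : Set S)) :=
    cent_za_ge.trans (Nat.le_of_dvd Nat.card_pos (Subgroup.card_dvd_of_le Ca_le))
  have hmapC : ∀ (σ : G ≃* S) (a : G), Nat.card (Subgroup.centralizer ({σ a} : Set S)) =
      Nat.card (Subgroup.centralizer ({a} : Set G)) := by
    intro σ a
    rw [← Set.image_singleton, ← CfsgLib.Base.map_centralizer_mulEquiv,
      Subgroup.card_map_of_injective σ.injective]
  have hzx : IsConj z (φ.symm za) := by
    rcases two_class M ht ht2 hx with h | h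
    · exact h
    · exfalso
      obtain ⟨k, hk⟩ := isConj_iff.1 h
      have h1 := hmapC ((MulAut.conj k).trans φ) t
      have h2 : ((MulAut.conj k).trans φ) t = za := by
        show φ (k * t * k⁻¹) = za
        rw [hk, MulEquiv.apply_symm_apply]
      rw [h2, FD.card_H] at h1
      omega
  obtain ⟨k, hk⟩ := isConj_iff.1 hzx
  let ψ0 : G ≃* S := (MulAut.conj k).trans φ
  have hψz : ψ0 z = za := by
    show φ (k * z * k⁻¹) = za
    rw [hk, MulEquiv.apply_symm_apply]
  have hCeq : Ca = Subgroup.centralizer ({za} : Set S) := by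
    refine Subgroup.eq_of_le_of_card_ge Ca_le ?_
    rw [← hψz, hmapC, card_Cz M]
    exact cent_za_ge
  -- the normal two-subgroup goes into `Q`
  have hback : ∀ x : S, x ∈ Subgroup.centralizer ({za} : Set S) → ψ0.symm x ∈ Cz z := by
    intro x hx
    rw [CfsgLib.Small.SuzTwo.mem_Cz]
    apply ψ0.injective
    simpa [hψz] using Subgroup.mem_centralizer_singleton_iff.1 hx
  have hfor : ∀ c : G, c ∈ Cz z → ψ0 c ∈ Ca := by
    intro c hc
    rw [hCeq, Subgroup.mem_centralizer_singleton_iff, ← hψz, ← map_mul, ← map_mul,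
      CfsgLib.Small.SuzTwo.mem_Cz.1 hc]
  let N : Subgroup (Cz z) := (Q0.comap ψ0.toMonoidHom).subgroupOf (Cz z)
  have hNn : N.Normal := by
    refine ⟨fun n hn c => ?_⟩
    have hn' : ψ0 (n : G) ∈ Q0 := hn
    have := (Subgroup.mem_normalizer_iff.1 (Ca_normalize (hfor c c.2)) _).1 hn'
    show ψ0 ((c : G) * (n : G) * (c : G)⁻¹) ∈ Q0
    simpa using this
  have hNp : IsPGroup 2 N := (Q0_pgroup.comap_of_injective ψ0.toMonoidHom ψ0.injective).comap_of_injective
    _ Subtype.val_injective
  have hNQ : N ≤ Q := by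
    haveI := hNn
    rw [← hF]
    exact le_trans (le_trans (CfsgLib.Base.le_pCore hNp) (CfsgLib.Base.pCore_le_fittingSubgroup 2 _))
      le_sup_right
  -- the model element of order three
  have hy : y ∈ Subgroup.centralizer ({za} : Set S) :=
    Subgroup.mem_centralizer_singleton_iff.2 y_za.symm
  have hy32 : 32 ≤ Nat.card ↥(Q.map (Subgroup.subtype _) ⊓
      Subgroup.centralizer ({ψ0.symm y} : Set G)) := by
    refine card_Q0_y.trans ?_
    refine Nat.card_le_card_of_injective (fun q => ⟨ψ0.symm q.1, ?_, ?_⟩) ?_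
    · have hq : ψ0.symm q.1 ∈ Cz z := hback _ (Q0_le q.2.1)
      exact ⟨⟨_, hq⟩, hNQ (show ψ0 (ψ0.symm q.1) ∈ Q0 by rw [MulEquiv.apply_symm_apply]; exact q.2.1), rfl⟩
    · exact Subgroup.mem_centralizer_singleton_iff.2 (by
        rw [← map_mul, ← map_mul, Subgroup.mem_centralizer_singleton_iff.1 q.2.2])
    · intro a b hab
      exact Subtype.ext (ψ0.symm.injective (congrArg Subtype.val hab :))
  obtain ⟨c, hc, hcm'⟩ := M.three_conj w.2 (hback y hy) hwG
    (by rw [MulEquiv.orderOf_eq, orderOf_y]) h32 hy32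
  refine ⟨(MulAut.conj c).trans ψ0, ?_⟩
  rw [hWmap]
  show (Subgroup.zpowers (w : G)).map (ψ0.toMonoidHom.comp (MulAut.conj c).toMonoidHom) = Y
  rw [← Subgroup.map_map, hcm', MonoidHom.map_zpowers, MulEquiv.coe_toMonoidHom,
    MulEquiv.apply_symm_apply]

theorem cent_three (X : Subgroup G) (ψ : G ≃* S) (hX : X.map ψ.toMonoidHom = Y)
    [(X.subgroupOf (Subgroup.centralizer (X : Set G))).Normal] (K : Type) [Field K] [Fintype K]
    (hK : Fintype.card K = 9) :
    Cfsg.IsQuasisimple ↥(Subgroup.centralizer (X : Set G)) ∧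
      Nonempty (↥(Subgroup.centralizer (X : Set G)) ⧸ X.subgroupOf (Subgroup.centralizer (X : Set G))
        ≃* Cfsg.PSU 4 K 3) ∧
      (Subgroup.centralizer (X : Set G)).relIndex (Subgroup.normalizer (X : Set G)) = 2 := by
  have hC : (Subgroup.centralizer (X : Set G)).map ψ.toMonoidHom = Cy := by
    rw [CfsgLib.Base.map_centralizer_mulEquiv]
    show Subgroup.centralizer (ψ '' (X : Set G)) = Subgroup.centralizer (Y : Set S)
    rw [← hX]; rfl
  let E : ↥(Subgroup.centralizer (X : Set G)) ≃* C0 :=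
    ((ψ.subgroupMap _).trans (MulEquiv.subgroupCongr hC)).trans (MulEquiv.subgroupCongr C0_eq.symm)
  have hEval : ∀ x, (E x : S) = ψ (x : G) := fun _ => rfl
  have hcen : Subgroup.center ↥(Subgroup.centralizer (X : Set G)) =
      X.subgroupOf (Subgroup.centralizer (X : Set G)) := by
    ext x
    have h1 : x ∈ Subgroup.center ↥(Subgroup.centralizer (X : Set G)) ↔ E x ∈ Subgroup.center C0 := by
      simp only [Subgroup.mem_center_iff]
      constructor
      · intro h g
        obtain ⟨g, rfl⟩ := E.surjective g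
        rw [← map_mul, ← map_mul, h]
      · intro h g
        exact E.injective (by rw [map_mul, map_mul, h])
    rw [h1, C0_center, counts.2.2.2.2, Subgroup.mem_subgroupOf, Subgroup.mem_subgroupOf, hEval,
      ← hX]
    constructor
    · rintro ⟨g, hg, hge⟩
      obtain rfl : g = (x : G) := ψ.injective hge
      exact hg
    · exact fun h => ⟨_, h, rfl⟩
  refine ⟨?_, ?_, ?_⟩
  · obtain ⟨hp, hs⟩ := quasisimple_C0
    refine ⟨?_, ?_⟩
    · haveI : Group.IsPerfect C0 := hp
      exact Group.IsPerfect.ofSurjective (f := E.symm.toMonoidHom) E.symm.surjective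
    · haveI := hs
      exact (QuotientGroup.congr _ (Subgroup.center C0) E (by
        rw [hcen]
        ext g
        obtain ⟨x, rfl⟩ := E.surjective g
        rw [C0_center, counts.2.2.2.2, Subgroup.mem_subgroupOf, hEval, ← hX]
        constructor
        · rintro ⟨x', hx', hxe⟩
          obtain rfl : x' = x := E.injective hxe
          exact ⟨_, hx', rfl⟩
        · rintro ⟨g, hg, hge⟩
          obtain rfl : g = (x : G) := ψ.injective hge
          exact ⟨x, hg, rfl⟩)).isSimpleGroup
  · obtain ⟨e⟩ := psu_equiv K hK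
    refine ⟨(QuotientGroup.congr _ (Subgroup.center C0) E ?_).trans e⟩
    ext g
    obtain ⟨x, rfl⟩ := E.surjective g
    rw [C0_center, counts.2.2.2.2, Subgroup.mem_subgroupOf, hEval, ← hX]
    constructor
    · rintro ⟨x', hx', hxe⟩
      obtain rfl : x' = x := E.injective hxe
      exact ⟨_, hx', rfl⟩
    · rintro ⟨g, hg, hge⟩
      obtain rfl : g = (x : G) := ψ.injective hge
      exact ⟨x, hg, rfl⟩
  · rw [← Subgroup.relIndex_map_map_of_injective _ _ (f := ψ.toMonoidHom) ψ.injective, hC,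
      Subgroup.map_equiv_normalizer_eq, ← relIndex_Cy]
    rw [show (X.map ψ.toMonoidHom) = Y from hX]

theorem sylow_three (X : Subgroup G) (ψ : G ≃* S) (hX : X.map ψ.toMonoidHom = Y)
    (Psy : Sylow 3 ↥(Subgroup.normalizer (X : Set G))) :
    ¬ 3 ∣ ((Psy : Subgroup ↥(Subgroup.normalizer (X : Set G))).map
      (Subgroup.subtype (Subgroup.normalizer (X : Set G)))).index ∧
    ∃ A : Subgroup G, A ≤ (Psy : Subgroup ↥(Subgroup.normalizer (X : Set G))).map
        (Subgroup.subtype (Subgroup.normalizer (X : Set G))) ∧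
      Cfsg.IsElementaryAbelian 3 A ∧ Nat.card A = 3 ^ 5 ∧
      Subgroup.centralizer (A : Set G) = A ∧
      ∃ _ : (A.subgroupOf (Subgroup.normalizer (A : Set G))).Normal,
        Cfsg.Spor.IsoM11 (↥(Subgroup.normalizer (A : Set G)) ⧸
          A.subgroupOf (Subgroup.normalizer (A : Set G))) := by
  haveI : Fact (Nat.Prime 3) := ⟨by norm_num⟩
  have hNmap : (Subgroup.normalizer (X : Set G)).map ψ.toMonoidHom = Ny := by
    rw [Subgroup.map_equiv_normalizer_eq, show (X.map ψ.toMonoidHom) = Y from hX]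
  have hN : Nat.card (Subgroup.normalizer (X : Set G)) = 19595520 := by
    rw [← Subgroup.card_map_of_injective (K := Subgroup.normalizer (X : Set G))
      (f := ψ.toMonoidHom) ψ.injective, hNmap, counts.2.2.1]
  have hPc : Nat.card (Psy : Subgroup ↥(Subgroup.normalizer (X : Set G))) = 2187 := by
    rw [Sylow.card_eq_multiplicity, hN]
    have : (19595520 : ℕ).factorization 3 = 7 := by
      rw [show (19595520 : ℕ) = 3 ^ 7 * 8960 by norm_num,
        Nat.factorization_mul (by norm_num) (by norm_num), Finsupp.add_apply,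
        Nat.Prime.factorization_pow (by norm_num),
        Nat.factorization_eq_zero_of_not_dvd (show ¬ 3 ∣ 8960 by norm_num)]
      simp
    rw [this]; norm_num
  have hG : Nat.card G = 448345497600 := (Nat.card_congr ψ.toEquiv).trans card_S
  constructor
  · have h := ((Psy : Subgroup ↥(Subgroup.normalizer (X : Set G))).map
      (Subgroup.subtype (Subgroup.normalizer (X : Set G)))).card_mul_index
    rw [Subgroup.card_map_of_injective Subtype.val_injective, hPc, hG] at h
    omega
  · let A1 : Subgroup G := A0.map ψ.symm.toMonoidHom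
    have hA1 : A1 ≤ Subgroup.normalizer (X : Set G) := by
      rintro _ ⟨a, ha, rfl⟩
      refine (Subgroup.mem_map_equiv (f := ψ)).1 ?_
      show a ∈ (Subgroup.normalizer (X : Set G)).map ψ.toMonoidHom
      rw [hNmap]
      refine Subgroup.centralizer_le_normalizer _ (Subgroup.mem_centralizer_iff.2 fun h hh => ?_)
      obtain ⟨n, rfl⟩ := Subgroup.mem_zpowers_iff.1 hh
      exact A0_comm (A0.zpow_mem y_mem_A0 n) ha
    have hp : IsPGroup 3 (A1.subgroupOf (Subgroup.normalizer (X : Set G))) :=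
      IsPGroup.of_card (n := 5) (by
        rw [CfsgLib.Base.card_subgroupOf hA1, Subgroup.card_map_of_injective ψ.symm.injective,
          card_A0]; norm_num)
    obtain ⟨R, hR⟩ := hp.exists_le_sylow
    obtain ⟨n, hn⟩ := MulAction.exists_smul_eq (Subgroup.normalizer (X : Set G)) R Psy
    let χ : S ≃* G := ψ.symm.trans (MulAut.conj (n : G))
    refine ⟨A0.map χ.toMonoidHom, ?_, ?_, ?_, ?_, ?_⟩
    · rintro _ ⟨a, ha, rfl⟩
      have h1 : (⟨ψ.symm a, hA1 ⟨a, ha, rfl⟩⟩ : Subgroup.normalizer (X : Set G)) ∈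
          (R : Subgroup _) := hR ⟨a, ha, rfl⟩
      have h2 : n * ⟨ψ.symm a, hA1 ⟨a, ha, rfl⟩⟩ * n⁻¹ ∈ (Psy : Subgroup _) := by
        rw [← hn]
        exact ⟨_, h1, rfl⟩
      exact ⟨_, h2, rfl⟩
    · refine ⟨Subgroup.map_isMulCommutative _ _, ?_⟩
      rintro _ ⟨a, ha, rfl⟩
      rw [← map_pow, elementary_A0.2 a ha, map_one]
    · rw [Subgroup.card_map_of_injective χ.injective, card_A0]; norm_num
    · have h := CfsgLib.Base.map_centralizer_mulEquiv χ (A0 : Set S)
      rw [centralizer_A0] at h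
      exact h.symm
    · obtain ⟨hn', ⟨e⟩⟩ := isoM11_quotient
      have hNA : (Subgroup.normalizer (A0 : Set S)).map χ.toMonoidHom =
          Subgroup.normalizer ((A0.map χ.toMonoidHom : Subgroup G) : Set G) :=
        Subgroup.map_equiv_normalizer_eq A0 χ
      let Eq : Na ≃* ↥(Subgroup.normalizer ((A0.map χ.toMonoidHom : Subgroup G) : Set G)) :=
        (χ.subgroupMap _).trans (MulEquiv.subgroupCongr hNA)
      have hmap : (A0.subgroupOf Na).map Eq.toMonoidHom = (A0.map χ.toMonoidHom).subgroupOf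
          (Subgroup.normalizer ((A0.map χ.toMonoidHom : Subgroup G) : Set G)) := by
        ext g
        constructor
        · rintro ⟨a, ha, rfl⟩
          exact ⟨(a : S), ha, rfl⟩
        · rintro ⟨a, ha, hae⟩
          refine ⟨⟨a, A0_le ha⟩, ha, ?_⟩
          exact Subtype.ext hae
      have hnm := Subgroup.Normal.map hn' Eq.toMonoidHom Eq.surjective
      rw [hmap] at hnm
      exact ⟨hnm, ⟨(QuotientGroup.congr _ _ Eq hmap).symm.trans e⟩⟩

end CfsgLib.Spor.SuzThree
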